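import Cfsg.Agent.S5096
import Cfsg.Agent.H802.FusEss

/-!
# Normality through essential subgroups (S5087) (helper973)
-/

set_option autoImplicit false

namespace Cfsg.Agent.H973

open Cfsg Cfsg.FusionSystem

variable {Ω : Type*} [Group Ω] {S : Subgroup Ω} {F : FusionSystem S}

/-- If `Q ≤ P ≤ S`, `S` normalizes `Q`, and `α ∈ Aut_F(P)` maps `Q` onto itself, then `α` is a map of `N_F(Q)`. -/
theorem mem_normalizerHom_of_invariant {P Q : Subgroup Ω} (hPS : P ≤ S) (hQP : Q ≤ P)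
    (hN : S ≤ Subgroup.normalizer (Q : Set Ω)) {α : MulAut P} (hα : α ∈ F.autGroup P)
    (hinv : (Q.subgroupOf P).map α.toMonoidHom = Q.subgroupOf P) :
    P.subtype.comp α.toMonoidHom ∈ F.normalizerHom Q P := by
  have hmem := (H802.mem_autGroup_iff F hPS α).1 hα
  have hsup : P ⊔ Q = P := sup_eq_left.2 hQP
  refine ⟨hmem, fun x hx => ⟨hPS hx, hN (hPS hx)⟩,
    fun x => ⟨hPS (α x).2, hN (hPS (α x).2)⟩, ?_⟩
  refine ⟨(P.subtype.comp α.toMonoidHom).comp (Subgroup.inclusion hsup.le),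
    H802.mem_of_eq_source hsup.symm hmem (fun x hx hx' => rfl), fun x => rfl, ?_⟩
  ext y
  constructor
  · rintro ⟨⟨x, hx⟩, hxQ, rfl⟩
    have hxP : x ∈ P := hsup.le hx
    have h1 : α ⟨x, hxP⟩ ∈ (Q.subgroupOf P).map α.toMonoidHom := ⟨⟨x, hxP⟩, hxQ, rfl⟩
    rw [hinv] at h1
    exact h1
  · intro hy
    have h1 : (⟨y, hQP hy⟩ : P) ∈ (Q.subgroupOf P).map α.toMonoidHom := by rw [hinv]; exact hy
    obtain ⟨x, hx, hxy⟩ := h1
    exact ⟨⟨x, (le_sup_left : P ≤ P ⊔ Q) x.2⟩, hx, congrArg Subtype.val hxy⟩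

/-- **S5087.** -/
theorem isNormal_iff_essential [Finite S] {p : ℕ} [Fact p.Prime] (hS : IsPGroup p S)
    (hF : F.IsSaturated p) (Q : Subgroup Ω) :
    F.IsNormal Q ↔ ∀ P : Subgroup Ω, (P = S ∨ F.IsEssential p P) →
      (Q ≤ P ∧ ∀ α ∈ F.autGroup P, (Q.subgroupOf P).map α.toMonoidHom = Q.subgroupOf P) := by
  constructor
  · intro hQ P hP
    have hPS : P ≤ S := by
      rcases hP with rfl | h
      · exact le_rfl
      · exact h.1.1
    have : Finite P := H802.finite_of_le hPS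
    have hQP : Q ≤ P := by
      rcases hP with rfl | h
      · exact hQ.1
      · by_contra hnot
        obtain ⟨D, hD, hne, hext⟩ := H802.exists_proper_of_isEssential hS hF h
        apply hne
        apply le_antisymm hD
        intro α hα
        apply hext α hα
        obtain ⟨ψ, hψ, h1, -⟩ := hQ.2 P _ ((H802.mem_autGroup_iff F hPS α).1 hα)
        refine ⟨P ⊔ Q, le_sup_left, ?_, ψ, hψ, fun x => h1 x⟩
        have hfin : Finite (P ⊔ Q : Subgroup Ω) := H802.finite_of_le (sup_le hPS hQ.1)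
        have hlt : P < P ⊔ Q := by
          refine lt_of_le_of_ne le_sup_left (fun heq => hnot ?_)
          rw [heq]; exact le_sup_right
        by_contra hc
        exact hlt.ne (Subgroup.eq_of_le_of_card_ge hlt.le (not_lt.1 hc))
    refine ⟨hQP, fun α hα => ?_⟩
    obtain ⟨ψ, hψ, h1, h2⟩ := hQ.2 P _ ((H802.mem_autGroup_iff F hPS α).1 hα)
    ext y
    constructor
    · rintro ⟨x, hx, rfl⟩
      have h3 : ψ (Subgroup.inclusion le_sup_left x) ∈ (Q.subgroupOf (P ⊔ Q)).map ψ :=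
        ⟨_, hx, rfl⟩
      rw [h2, h1 x] at h3
      exact h3
    · intro hy
      have h3 : (y : Ω) ∈ (Q.subgroupOf (P ⊔ Q)).map ψ := by rw [h2]; exact hy
      obtain ⟨x, hx, hxy⟩ := h3
      have hxQ : (x : Ω) ∈ Q := hx
      refine ⟨⟨x, hQP hxQ⟩, hx, ?_⟩
      apply Subtype.ext
      have h4 := h1 ⟨x, hQP hxQ⟩
      have h5 : (Subgroup.inclusion (le_sup_left : P ≤ P ⊔ Q) ⟨x, hQP hxQ⟩) = x := Subtype.ext rfl
      rw [h5, hxy] at h4
      exact h4.symm
  · intro h
    have hQS : Q ≤ S := (h S (Or.inl rfl)).1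
    have hN : S ≤ Subgroup.normalizer (Q : Set Ω) := by
      intro g hg
      obtain ⟨α, hα⟩ := H802.exists_conjAut (P := S) (g := g) (Subgroup.le_normalizer hg)
      have hα' : α ∈ F.autGroup S := H802.autInducedBy_le_autGroup F le_rfl
        ((H802.mem_autInducedBy_iff S S α).2 ⟨g, hg, hα⟩)
      have hinv := (h S (Or.inl rfl)).2 α hα'
      rw [Subgroup.mem_normalizer_iff]
      intro x
      constructor
      · intro hx
        have h1 : α ⟨x, hQS hx⟩ ∈ (Q.subgroupOf S).map α.toMonoidHom := ⟨⟨x, hQS hx⟩, hx, rfl⟩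
        rw [hinv] at h1
        have h2 : ((α ⟨x, hQS hx⟩ : S) : Ω) ∈ Q := h1
        rwa [hα] at h2
      · intro hx
        have hx' : (⟨g * x * g⁻¹, hQS hx⟩ : S) ∈ (Q.subgroupOf S).map α.toMonoidHom := by
          rw [hinv]; exact hx
        obtain ⟨y, hy, hyx⟩ := hx'
        have h1 : g * (y : Ω) * g⁻¹ = g * x * g⁻¹ := by
          rw [← hα y]; exact congrArg Subtype.val hyx
        have h2 : (y : Ω) = x := mul_left_cancel (mul_right_cancel h1)
        rw [← h2]; exact hy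
    have hNS : normalizerIn S Q = S := inf_eq_left.2 hN
    obtain ⟨E, hE⟩ : ∃ E : FusionSystem S, ∀ P, E.Hom P = F.normalizerHom Q P := by
      obtain ⟨E₀, hE₀⟩ := Cfsg.Agent.S5096.result F Q hQS
      have key : ∀ T : Subgroup Ω, normalizerIn S Q = T →
          ∃ E : FusionSystem T, ∀ P, E.Hom P = F.normalizerHom Q P := by
        rintro _ rfl
        exact ⟨E₀, hE₀⟩
      exact key S hNS
    have haut : ∀ P : Subgroup Ω, P ≤ S → (P = S ∨ F.IsEssential p P) →
        F.autGroup P ≤ E.autGroup P := by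
      intro P hPS hP α hα
      rw [H802.mem_autGroup_iff E hPS, hE]
      exact mem_normalizerHom_of_invariant hPS (h P hP).1 hN hα ((h P hP).2 α hα)
    have hall : ∀ P : Subgroup Ω, F.Hom P ⊆ E.Hom P :=
      H802.le_of_essential hS hF E (haut S le_rfl (Or.inl rfl))
        (fun P hP _ => haut P hP.1.1 (Or.inr hP))
    refine ⟨hQS, fun P φ hφ => ?_⟩
    have h1 := hall P hφ
    rw [hE] at h1
    exact h1.2.2.2

end Cfsg.Agent.H973
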