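import Cfsg.Agent.H28.DefChar
import Cfsg.Agent.H28.ZIso
import Cfsg.Agent.H628.ZOutPSp
import Cfsg.Agent.ClassicalGeometry.SympInvolutions
import Cfsg.Agent.S2586
import Cfsg.Agent.S2589

/-!
# The `Z*_p` row of the symplectic groups (helper973)

An element of odd order prime to the characteristic of `PSp_{2m}(q)` is conjugate to its inverse.
-/

set_option autoImplicit false
set_option maxHeartbeats 400000

namespace Cfsg.Agent.H973.ZPSp

open Subgroup Cfsg Cfsg.Agent.H256.ZBasic Cfsg.Agent.H256.ZRed Cfsg.Agent.H256.ZTool Cfsg.Agent.H28.ZIso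

universe u v

/-- An element of prime order `p ≠ 2` conjugate to its inverse is not isolated. -/
theorem not_isolated_of_inv {G : Type u} [Group G] {p : ℕ} (hp : p.Prime) (hp2 : p ≠ 2) {y : G}
    (hy : orderOf y = p) {g : G} (hg : g * y * g⁻¹ = y⁻¹) : ¬ IsIsolated y := by
  intro hiso
  have h1 : Commute y (g * y * g⁻¹) := by
    rw [hg]
    exact (Commute.refl y).inv_right
  have h2 := hiso g h1
  rw [hg] at h2
  have h3 : y ^ 2 = 1 := by
    rw [pow_two]
    nth_rewrite 1 [← h2]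
    exact inv_mul_cancel y
  have h4 : p ∣ 2 := by
    rw [← hy]
    exact orderOf_dvd_of_pow_eq_one h3
  exact hp2 ((Nat.prime_dvd_prime_iff_eq hp Nat.prime_two).mp h4)

theorem center_sq {F : Type*} [Field F] {m : ℕ} {z : Matrix.symplecticGroup (Fin m) F}
    (hz : z ∈ Subgroup.center (Matrix.symplecticGroup (Fin m) F)) : z ^ 2 = 1 := by
  apply Subtype.ext
  rcases Cfsg.Agent.ClassicalGeometry.SympInvolutions.center_eq hz with h | h
  · rw [pow_two, Submonoid.coe_mul, h, one_mul]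
    rfl
  · rw [pow_two, Submonoid.coe_mul, h, neg_mul_neg, one_mul]
    rfl

/-- Elements of odd prime order of `PSp_{2m}(q)`, prime to the characteristic, are not isolated. -/
theorem not_isolated_psp {F : Type*} [Field F] [Fintype F] {r : ℕ} [Fact r.Prime] [CharP F r]
    {m : ℕ} {p : ℕ} (hp : p.Prime) (hp2 : p ≠ 2) (hpr : p ≠ r) (y : PSp m F)
    (hy : orderOf y = p) : ¬ IsIsolated y := by
  obtain ⟨x₀, rfl⟩ := QuotientGroup.mk_surjective y
  set π : Matrix.symplecticGroup (Fin m) F →* PSp m F := QuotientGroup.mk' _ with hπ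
  have hodd : Odd p := hp.odd_of_ne_two hp2
  obtain ⟨k, hk⟩ := hodd
  have hx0 : π x₀ ^ p = 1 := by
    rw [← hy]
    exact pow_orderOf_eq_one _
  have hz : x₀ ^ p ∈ Subgroup.center (Matrix.symplecticGroup (Fin m) F) := by
    rw [← QuotientGroup.ker_mk' (Subgroup.center (Matrix.symplecticGroup (Fin m) F)),
      MonoidHom.mem_ker, map_pow]
    exact hx0
  have hx1 : (x₀ ^ (p + 1)) ^ p = 1 := by
    have h1 : p + 1 = 2 * (k + 1) := by omega
    rw [← pow_mul, mul_comm, pow_mul, h1, pow_mul, center_sq hz, one_pow]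
  have hπx : π (x₀ ^ (p + 1)) = QuotientGroup.mk x₀ := by
    rw [map_pow, pow_succ, hx0, one_mul]
    rfl
  have hord : (orderOf (x₀ ^ (p + 1))).Coprime r := by
    refine Nat.Coprime.coprime_dvd_left (orderOf_dvd_of_pow_eq_one hx1) ?_
    exact (Nat.coprime_primes hp (Fact.out : r.Prime)).mpr hpr
  have hconj := (Cfsg.Agent.S2589.result (x₀ ^ (p + 1)) (x₀ ^ (p + 1))⁻¹ hord).mpr
    (Cfsg.Agent.S2586.result (x₀ ^ (p + 1)))
  obtain ⟨g, hg⟩ := isConj_iff.mp hconj
  refine not_isolated_of_inv hp hp2 hy (g := π g) ?_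
  have h2 := congrArg π hg
  rw [map_mul, map_mul, map_inv, map_inv, hπx] at h2
  exact h2

theorem rowS_psp {p : ℕ} [hp : Fact p.Prime] (hp2 : p ≠ 2) {L : Type v} [Group L]
    (hL : IsPSp L) : RowS.{u, v} p L := by
  obtain ⟨F, iF, iF', m, hm, hs, ⟨f⟩⟩ := hL
  obtain ⟨r, hr⟩ := CharP.exists F
  have hFf : Finite F := Finite.of_fintype F
  have hrp : Fact r.Prime := ⟨CharP.char_is_prime F r⟩
  have hfin : Finite (PSp m F) := inferInstance
  have hLfin : Finite L := Finite.of_equiv (PSp m F) f.symm.toEquiv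
  intro G _ _ x hx hsm e
  rcases eq_or_ne p r with hpr | hpr
  · subst hpr
    have hch : IsLieTypeChar p L := Or.inr (Or.inl ⟨F, iF, iF', hr, m, hm, hs, ⟨f⟩⟩)
    exact Cfsg.Agent.H28.DefChar.row_of_lieTypeChar hp2 hch x hx e
  · have hmain : ∀ X : MulAut (PSp m F), orderOf X = p →
        (∃ g, X = MulAut.conj g) ∨ LangAt p X := fun X hX =>
      Cfsg.Agent.H628.ZOutPSp.main hm (fun h => by
        rw [Nat.card_eq_fintype_card]; exact hs h) hp.out hp2 hX
    exact rowS_of_lang hp2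
      (fun y hy => not_isolated_psp hp.out hp2 hpr y hy.ord hy.iso) hmain x hx hsm (e.trans f)

end Cfsg.Agent.H973.ZPSp
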