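import Mathlib
import Cfsg.Agent.H973.SimsUni

/-!
# S3386: the linear groups (helper973, task 447)
-/

set_option autoImplicit false

namespace Cfsg.Agent.H973.SimsPSL

open Function Subgroup Matrix

abbrev SL (n : ℕ) (F : Type) [Field F] := Matrix.SpecialLinearGroup (Fin n) F

/-- the natural representation -/
noncomputable def rho (n : ℕ) (F : Type) [Field F] : SL n F →* Module.End F (Fin n → F) where
  toFun g := Matrix.toLin' g.1
  map_one' := by
    rw [Matrix.SpecialLinearGroup.coe_one]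
    exact Matrix.toLin'_one
  map_mul' g h := by
    rw [Matrix.SpecialLinearGroup.coe_mul]
    exact Matrix.toLin'_mul _ _

theorem rho_apply {n : ℕ} {F : Type} [Field F] (g : SL n F) (v : Fin n → F) :
    rho n F g v = g.1 *ᵥ v := Matrix.toLin'_apply _ _

/-- an element of the center killed by `r` in characteristic `r` is trivial -/
theorem center_pow {n : ℕ} {F : Type} [Field F] {r : ℕ} [Fact r.Prime] [CharP F r]
    {g : SL n F} (hg : g ∈ center (SL n F)) (h : g ^ r = 1) : g = 1 := by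
  obtain ⟨a, -, ha⟩ := Matrix.SpecialLinearGroup.mem_center_iff.mp hg
  rcases Nat.eq_zero_or_pos n with hn | hn
  · subst hn
    exact Subsingleton.elim _ _
  haveI : Nonempty (Fin n) := ⟨⟨0, hn⟩⟩
  have h1 : scalar (Fin n) (a ^ r) = scalar (Fin n) (1 : F) := by
    rw [map_pow, map_one, ha, ← Matrix.SpecialLinearGroup.coe_pow, h, Matrix.SpecialLinearGroup.coe_one]
  have h2 : a ^ r = 1 := Matrix.scalar_inj.mp h1
  have h3 : (a - 1) ^ r = 0 := by rw [sub_pow_char, one_pow, h2, sub_self]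
  have h4 : a = 1 := sub_eq_zero.mp (pow_eq_zero_iff (Fact.out : r.Prime).ne_zero |>.mp h3)
  apply Subtype.ext
  rw [← ha, h4, map_one, Matrix.SpecialLinearGroup.coe_one]

section hom

variable {n c : ℕ} {F : Type} [Field F]
  (N : (Fin c → F) →ₗ[F] Module.End F (Fin n → F)) (hN : ∀ a b, N a * N b = 0)

include hN

theorem one_add_mul (a b : Fin c → F) :
    (1 + LinearMap.toMatrix' (N a)) * (1 + LinearMap.toMatrix' (N b)) =
      1 + LinearMap.toMatrix' (N (a + b)) := by
  have h : LinearMap.toMatrix' (N a) * LinearMap.toMatrix' (N b) = 0 := by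
    rw [← LinearMap.toMatrix'_mul, hN, map_zero]
  rw [add_mul, mul_add, mul_add, h, map_add, map_add]
  simp only [one_mul, mul_one, add_zero]
  abel

theorem det_one_add {r : ℕ} [Fact r.Prime] [CharP F r] (a : Fin c → F) :
    (1 + LinearMap.toMatrix' (N a)).det = 1 := by
  have h1 : ∀ k : ℕ, (1 + LinearMap.toMatrix' (N a)) ^ k =
      1 + LinearMap.toMatrix' (N (k • a)) := by
    intro k
    induction k with
    | zero => rw [pow_zero, zero_smul, map_zero, map_zero, add_zero]
    | succ k ih => rw [pow_succ, ih, one_add_mul N hN, succ_nsmul]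
  have h2 := congrArg Matrix.det (h1 r)
  rw [← Nat.cast_smul_eq_nsmul F, CharP.cast_eq_zero, zero_smul, map_zero, map_zero, add_zero,
    det_one, det_pow] at h2
  have h3 : ((1 + LinearMap.toMatrix' (N a)).det - 1) ^ r = 0 := by
    rw [sub_pow_char, one_pow, h2, sub_self]
  exact sub_eq_zero.mp (pow_eq_zero_iff (Fact.out : r.Prime).ne_zero |>.mp h3)

/-- the group of the unipotent elements -/
def tau (r : ℕ) [Fact r.Prime] [CharP F r] : Multiplicative (Fin c → F) →* SL n F where
  toFun a := ⟨1 + LinearMap.toMatrix' (N a.toAdd), det_one_add N hN (r := r) _⟩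
  map_one' := by
    apply Subtype.ext
    change 1 + LinearMap.toMatrix' (N 0) = 1
    rw [map_zero, map_zero, add_zero]
  map_mul' a b := by
    apply Subtype.ext
    exact (one_add_mul N hN _ _).symm

end hom

theorem large_psl_of_iso (hiso : SimsUni.IsoStmt) (c K : ℕ) : ∃ n₀ : ℕ, ∀ n : ℕ, n₀ ≤ n →
    ∀ (F : Type) [Field F] [Finite F] (r : ℕ) [Fact r.Prime] [CharP F r]
    (Z : Subgroup (Matrix.ProjectiveSpecialLinearGroup (Fin n) F)), Nat.card Z ≤ K →
    (Nat.card Z).Coprime r →
    ∃ E : Subgroup (Matrix.ProjectiveSpecialLinearGroup (Fin n) F),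
      E ≤ Subgroup.centralizer (Z : Set _) ∧ IsPGroup r E ∧ c < Nat.card E := by
  refine ⟨K * K * (c + 1) + 1, ?_⟩
  intro n hn F _ _ r _ _ Z hZK hZr
  classical
  have hr : r.Prime := Fact.out
  haveI : Finite (SL n F) := Subtype.finite
  let π : SL n F →* SL n F ⧸ center (SL n F) := QuotientGroup.mk' (center (SL n F))
  have hπ : Surjective π := QuotientGroup.mk'_surjective _
  have hker : ∀ g, π g = 1 ↔ g ∈ center (SL n F) := fun g => QuotientGroup.eq_one_iff g
  let X : Subgroup (SL n F) := Z.comap π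
  have hX : (Nat.card X : F) ≠ 0 := by
    intro h0
    have h1 : r ∣ Nat.card X := (CharP.cast_eq_zero_iff F r _).mp h0
    obtain ⟨x, hx⟩ := exists_prime_orderOf_dvd_card' r h1
    have h2 : (⟨π x.1, x.2⟩ : Z) ^ r = 1 := by
      apply Subtype.ext
      change π x.1 ^ r = 1
      rw [← map_pow, ← SubmonoidClass.coe_pow, ← hx, pow_orderOf_eq_one]
      exact map_one π
    have h3 : (⟨π x.1, x.2⟩ : Z) = 1 := by
      have h4 : orderOf (⟨π x.1, x.2⟩ : Z) ∣ r := orderOf_dvd_of_pow_eq_one h2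
      have h5 : orderOf (⟨π x.1, x.2⟩ : Z) ∣ Nat.card Z := orderOf_dvd_natCard _
      have h6 := Nat.dvd_gcd h5 h4
      rw [Nat.Coprime.gcd_eq_one hZr, Nat.dvd_one] at h6
      exact orderOf_eq_one_iff.mp h6
    have h4 : x.1 ∈ center (SL n F) := (hker _).mp (congrArg Subtype.val h3)
    have h5 : x.1 ^ r = 1 := by
      rw [← SubmonoidClass.coe_pow, ← hx, pow_orderOf_eq_one]
      rfl
    have h6 : x = 1 := Subtype.ext (center_pow h4 h5)
    rw [h6, orderOf_one] at hx
    exact hr.one_lt.ne hx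
  have hT : ∃ T : Finset X, T.card ≤ K ∧ ∀ x, ∃ t ∈ T, ∃ a : F, ∀ v,
      ((rho n F).comp X.subtype) x v = a • ((rho n F).comp X.subtype) t v := by
    choose s hs using fun z : Z => hπ z.1
    haveI : Fintype Z := Fintype.ofFinite _
    refine ⟨Finset.univ.image (fun z : Z => (⟨s z, by
      change π (s z) ∈ Z
      rw [hs]
      exact z.2⟩ : X)), ?_, ?_⟩
    · refine Finset.card_image_le.trans ?_
      rw [Finset.card_univ, ← Nat.card_eq_fintype_card]
      exact hZK
    · intro x
      refine ⟨_, Finset.mem_image_of_mem _ (Finset.mem_univ (⟨π x.1, x.2⟩ : Z)), ?_⟩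
      have h1 : (s ⟨π x.1, x.2⟩)⁻¹ * x.1 ∈ center (SL n F) := by
        rw [← hker, map_mul, map_inv, hs, inv_mul_cancel]
      obtain ⟨a, -, ha⟩ := Matrix.SpecialLinearGroup.mem_center_iff.mp h1
      refine ⟨a, fun v => ?_⟩
      change rho n F x.1 v = a • rho n F (s ⟨π x.1, x.2⟩) v
      have h2 : x.1.1 = (s ⟨π x.1, x.2⟩).1 * ((s ⟨π x.1, x.2⟩)⁻¹ * x.1).1 := by
        rw [← Matrix.SpecialLinearGroup.coe_mul, mul_inv_cancel_left]
      rw [rho_apply, rho_apply, h2, ← ha, ← mulVec_mulVec, scalar_apply, ← smul_one_eq_diagonal,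
        smul_mulVec, one_mulVec, mulVec_smul]
  have hdim : K * K * (c + 1) < Module.finrank F (Fin n → F) := by
    rw [Module.finrank_pi, Fintype.card_fin]
    omega
  obtain ⟨N, hN1, hN2, hN3⟩ := SimsUni.exists_nilp hiso ((rho n F).comp X.subtype) hX K c hT hdim
  let τ := tau N hN2 r
  have hτ : ∀ a, (τ a).1 = 1 + LinearMap.toMatrix' (N a.toAdd) := fun a => rfl
  have hcomm : ∀ (x : SL n F) (_ : x ∈ X) a, x * τ a = τ a * x := by
    intro x hx a
    apply Subtype.ext
    change x.1 * (τ a).1 = (τ a).1 * x.1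
    rw [hτ, mul_add, add_mul, mul_one, one_mul]
    congr 1
    have h1 := congrArg LinearMap.toMatrix' (hN3 a.toAdd ⟨x, hx⟩)
    rw [LinearMap.toMatrix'_mul, LinearMap.toMatrix'_mul] at h1
    change LinearMap.toMatrix' (Matrix.toLin' x.1) * _ = _ * LinearMap.toMatrix' (Matrix.toLin' x.1)
      at h1
    rw [LinearMap.toMatrix'_toLin'] at h1
    exact h1
  have hn0 : 0 < n := by omega
  haveI : Nonempty (Fin n) := ⟨⟨0, hn0⟩⟩
  have hinj : Injective (π.comp τ) := by
    rw [injective_iff_map_eq_one]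
    intro a ha
    have h1 : τ a ∈ center (SL n F) := (hker _).mp ha
    obtain ⟨b, -, hb⟩ := Matrix.SpecialLinearGroup.mem_center_iff.mp h1
    rw [hτ] at hb
    have h2 : LinearMap.toMatrix' (N a.toAdd) = scalar (Fin n) (b - 1) := by
      rw [map_sub, map_one, hb, add_sub_cancel_left]
    have h3 : scalar (Fin n) ((b - 1) * (b - 1)) = scalar (Fin n) 0 := by
      rw [map_mul, ← h2, ← LinearMap.toMatrix'_mul, hN2, map_zero, map_zero]
    have h4 : b - 1 = 0 := mul_self_eq_zero.mp (Matrix.scalar_inj.mp h3)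
    rw [h4, map_zero] at h2
    have h5 : N a.toAdd = 0 := LinearMap.toMatrix'.injective (by rw [h2, map_zero])
    have h6 : a.toAdd = 0 := hN1 (by rw [h5, map_zero])
    exact Multiplicative.toAdd.injective h6
  refine ⟨(π.comp τ).range, ?_, ?_, ?_⟩
  · rintro _ ⟨a, rfl⟩
    rw [Subgroup.mem_centralizer_iff]
    intro z hz
    obtain ⟨x, rfl⟩ := hπ z
    change π x * π (τ a) = π (τ a) * π x
    rw [← map_mul, ← map_mul, hcomm x hz]
  · rintro ⟨_, a, rfl⟩
    refine ⟨1, ?_⟩
    apply Subtype.ext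
    change (π.comp τ a) ^ r ^ 1 = 1
    rw [pow_one, ← map_pow]
    have h1 : a ^ r = 1 := by
      apply Multiplicative.toAdd.injective
      rw [toAdd_pow, toAdd_one, ← Nat.cast_smul_eq_nsmul F, CharP.cast_eq_zero, zero_smul]
    rw [h1, map_one]
  · haveI : Finite (Multiplicative (Fin c → F)) := Pi.finite
    have h1 : Nat.card (π.comp τ).range = Nat.card (Fin c → F) := by
      rw [← Nat.card_congr (MonoidHom.ofInjective hinj).toEquiv]
      rfl
    rw [h1, Nat.card_fun, Nat.card_eq_fintype_card (α := Fin c), Fintype.card_fin]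
    haveI : Nontrivial F := inferInstance
    have h2 : 1 < Nat.card F := Finite.one_lt_card
    exact Nat.lt_pow_self h2

theorem isoStmt : SimsUni.IsoStmt := fun K m h1 h2 => Cfsg.Agent.H36.Sims.exists_isotypic K m h1 h2

theorem large_psl (c K : ℕ) : ∃ n₀ : ℕ, ∀ n : ℕ, n₀ ≤ n →
    ∀ (F : Type) [Field F] [Finite F] (r : ℕ) [Fact r.Prime] [CharP F r]
    (Z : Subgroup (Matrix.ProjectiveSpecialLinearGroup (Fin n) F)), Nat.card Z ≤ K →
    (Nat.card Z).Coprime r →
    ∃ E : Subgroup (Matrix.ProjectiveSpecialLinearGroup (Fin n) F),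
      E ≤ Subgroup.centralizer (Z : Set _) ∧ IsPGroup r E ∧ c < Nat.card E :=
  large_psl_of_iso isoStmt c K

end Cfsg.Agent.H973.SimsPSL
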