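import Cfsg.Agent.H759.FusNormal
import Cfsg.Agent.H802.FusNorm

/-!
# Normal subgroups of fusion systems: automorphism form (helper973)

* `exists_aut_of_isNormal`: for `R` normal in the system, every map with source inside `R` is the restriction of an element of
  `Aut_F(R)`;
* `stronglyClosed_of_char`: a subgroup of `R` invariant under `Aut_F(R)` is strongly closed;
* `isNormal_of_exists_aut`: the converse (S5106);
* `isNormal_iff_chain` (S5088), `core_ne_bot_iff` (S5089).
-/

set_option autoImplicit false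

namespace Cfsg.Agent.H973

open Cfsg Cfsg.FusionSystem
open scoped commutatorElement

variable {Ω : Type*} [Group Ω] {S : Subgroup Ω} {F : FusionSystem S}

/-- A map whose source lies in a subgroup `R` normal in the system is the restriction of an element of `Aut_F(R)`. -/
theorem exists_aut_of_isNormal {R : Subgroup Ω} (hR : F.IsNormal R) {P : Subgroup Ω} (hPR : P ≤ R)
    {φ : P →* Ω} (hφ : φ ∈ F.Hom P) :
    ∃ α ∈ F.autGroup R, ∀ x : P, ((α (Subgroup.inclusion hPR x) : R) : Ω) = φ x := by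
  obtain ⟨ψ, hψ, h1, h2⟩ := hR.2 P φ hφ
  have hsup : P ⊔ R = R := sup_eq_right.2 hPR
  -- restrict ψ to R
  have hres : ψ.comp (Subgroup.inclusion (le_sup_right : R ≤ P ⊔ R)) ∈ F.Hom R :=
    H802.restrict_mem hψ le_sup_right
  have hrange : (ψ.comp (Subgroup.inclusion (le_sup_right : R ≤ P ⊔ R))).range = R := by
    ext z
    constructor
    · rintro ⟨x, rfl⟩
      have : ψ (Subgroup.inclusion (le_sup_right : R ≤ P ⊔ R) x) ∈ (R.subgroupOf (P ⊔ R)).map ψ :=
        ⟨_, x.2, rfl⟩
      rwa [h2] at this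
    · intro hz
      rw [← h2] at hz
      obtain ⟨y, hy, rfl⟩ := hz
      exact ⟨⟨y, hy⟩, rfl⟩
  obtain ⟨α, hα, hα'⟩ := H802.exists_aut hres hrange
  refine ⟨α, hα, fun x => ?_⟩
  rw [hα', ← h1 x]
  rfl

/-- A subgroup of `R`, `R` normal in the system, invariant under `Aut_F(R)` is strongly closed. -/
theorem stronglyClosed_of_invariant {R U : Subgroup Ω} (hR : F.IsNormal R) (hUR : U ≤ R)
    (h : ∀ α ∈ F.autGroup R, ∀ (x : Ω) (hx : x ∈ U), ((α ⟨x, hUR hx⟩ : R) : Ω) ∈ U) :
    F.StronglyClosed U := by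
  refine ⟨hUR.trans hR.1, fun P hPU φ hφ x => ?_⟩
  obtain ⟨α, hα, hα'⟩ := exists_aut_of_isNormal hR (hPU.trans hUR) hφ
  rw [← hα' x]
  exact h α hα x (hPU x.2)

/-- A subgroup `U` of `R`, `R` normal in the system, whose trace in `R` is characteristic in `R` is strongly closed. -/
theorem stronglyClosed_of_char {R : Subgroup Ω} (hR : F.IsNormal R) (V : Subgroup R)
    [V.Characteristic] : F.StronglyClosed (V.map R.subtype) := by
  refine stronglyClosed_of_invariant hR (Subgroup.map_subtype_le V) (fun α hα x hx => ?_)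
  obtain ⟨y, hy, rfl⟩ := hx
  have h1 : V.map α.toMonoidHom = V := Subgroup.characteristic_iff_map_eq.1 inferInstance α
  refine ⟨α y, ?_, rfl⟩
  show α y ∈ V
  rw [← h1]
  exact ⟨y, hy, rfl⟩

/-- **S5106, hard direction**: if every map of the system with source in `R ≤ S` extends to an element of `Aut_F(R)`, then `R`
is normal in the (saturated) system. -/
theorem isNormal_of_exists_aut [Finite S] {p : ℕ} [Fact p.Prime] (hS : IsPGroup p S)
    (hF : F.IsSaturated p) {R : Subgroup Ω} (hRS : R ≤ S)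
    (h : ∀ (P : Subgroup Ω) (hPR : P ≤ R) (φ : P →* Ω), φ ∈ F.Hom P →
      ∃ α ∈ F.autGroup R, ∀ x : P, ((α (Subgroup.inclusion hPR x) : R) : Ω) = φ x) :
    F.IsNormal R := by
  have hsc : F.StronglyClosed R := by
    refine ⟨hRS, fun P hPR φ hφ x => ?_⟩
    obtain ⟨α, -, hα⟩ := h P hPR φ hφ
    rw [← hα x]
    exact (α _).2
  refine H759.isNormal_of_forall hS hF hsc ?_
  intro P hPa hPr _ α hα g hgR hgn
  have hPS : P ≤ S := hPa.1
  have : Finite P := H802.finite_of_le hPS
  set D : Subgroup Ω := P ⊓ R with hD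
  have hDP : D ≤ P := inf_le_left
  have hDR : D ≤ R := inf_le_right
  -- `Aut_F(P)` preserves `D`
  have hinv : ∀ β ∈ F.autGroup P, ∀ (x : P), (x : Ω) ∈ R → ((β x : P) : Ω) ∈ R := by
    intro β hβ x hx
    have hmem := (H802.mem_autGroup_iff F hPS β).1 hβ
    exact H759.StronglyClosed.apply_mem hsc hmem hx
  -- the subgroup X
  let X : Subgroup (MulAut P) :=
    { carrier := {κ | κ ∈ F.autGroup P ∧ (∀ x : P, (x : Ω)⁻¹ * ((κ x : P) : Ω) ∈ R) ∧
        ∃ q ∈ R, ∀ x : P, (x : Ω) ∈ R → ((κ x : P) : Ω) = q * x * q⁻¹}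
      one_mem' := ⟨Subgroup.one_mem _, fun x => by simp, 1, R.one_mem, fun x _ => by simp⟩
      mul_mem' := by
        rintro a b ⟨ha, ha2, q, hq, ha3⟩ ⟨hb, hb2, r, hr, hb3⟩
        refine ⟨Subgroup.mul_mem _ ha hb, fun x => ?_, q * r, R.mul_mem hq hr, fun x hx => ?_⟩
        · have h1 := ha2 (b x)
          have h2 := hb2 x
          have h3 := R.mul_mem h2 h1
          have : (x : Ω)⁻¹ * ((b x : P) : Ω) * (((b x : P) : Ω)⁻¹ * ((a (b x) : P) : Ω)) =
              (x : Ω)⁻¹ * (((a * b) x : P) : Ω) := by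
            rw [MulAut.mul_apply]; group
          rwa [this] at h3
        · rw [MulAut.mul_apply, ha3 (b x) (hinv b hb x hx), hb3 x hx]
          group
      inv_mem' := by
        rintro a ⟨ha, ha2, q, hq, ha3⟩
        refine ⟨Subgroup.inv_mem _ ha, fun x => ?_, q⁻¹, R.inv_mem hq, fun x hx => ?_⟩
        · have h1 := ha2 (a⁻¹ x)
          have h4 : a (a⁻¹ x) = x := a.apply_symm_apply x
          rw [h4] at h1
          have h5 := R.inv_mem h1
          have : (((a⁻¹ x : P) : Ω)⁻¹ * (x : Ω))⁻¹ = (x : Ω)⁻¹ * ((a⁻¹ x : P) : Ω) := by group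
          rwa [this] at h5
        · have h4 : a (a⁻¹ x) = x := a.apply_symm_apply x
          have h5 := ha3 (a⁻¹ x) (hinv _ (Subgroup.inv_mem _ ha) x hx)
          rw [h4] at h5
          rw [h5]; group }
  have hXA : X ≤ F.autGroup P := fun κ hκ => hκ.1
  have hXn : ∀ a ∈ F.autGroup P, ∀ k ∈ X, a * k * a⁻¹ ∈ X := by
    rintro a ha k ⟨hk, hk2, q, hq, hk3⟩
    have haD := h D hDR ((P.subtype.comp a.toMonoidHom).comp (Subgroup.inclusion hDP))
      (H802.restrict_mem ((H802.mem_autGroup_iff F hPS a).1 ha) hDP)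
    obtain ⟨γ, hγ, hγ'⟩ := haD
    refine ⟨Subgroup.mul_mem _ (Subgroup.mul_mem _ ha hk) (Subgroup.inv_mem _ ha), fun x => ?_,
      ((γ ⟨q, hq⟩ : R) : Ω), (γ _).2, fun x hx => ?_⟩
    · -- [P, a k a⁻¹] ≤ R
      have h1 := hk2 (a⁻¹ x)
      have h2 : ((a ((a⁻¹ x)⁻¹ * k (a⁻¹ x)) : P) : Ω) ∈ R := by
        apply hinv a ha
        simpa using h1
      rw [map_mul, map_inv] at h2
      have h4 : a (a⁻¹ x) = x := a.apply_symm_apply x
      rw [h4] at h2
      simpa [MulAut.mul_apply] using h2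
    · have hax : (((a⁻¹ x : P)) : Ω) ∈ R := hinv _ (Subgroup.inv_mem _ ha) x hx
      have e1 := hk3 (a⁻¹ x) hax
      -- γ agrees with a on D
      have hγa : ∀ (y : P) (hy : (y : Ω) ∈ R), ((γ ⟨y, hy⟩ : R) : Ω) = ((a y : P) : Ω) := by
        intro y hy
        exact hγ' ⟨y, ⟨y.2, hy⟩⟩
      have hkx : (((k (a⁻¹ x) : P)) : Ω) ∈ R := by
        rw [e1]
        exact R.mul_mem (R.mul_mem hq hax) (R.inv_mem hq)
      show ((a (k (a⁻¹ x)) : P) : Ω) = _
      rw [← hγa _ hkx]
      have e2 : (⟨((k (a⁻¹ x) : P) : Ω), hkx⟩ : R) = ⟨q, hq⟩ * ⟨_, hax⟩ * ⟨q, hq⟩⁻¹ :=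
        Subtype.ext e1
      rw [e2, map_mul, map_mul, map_inv]
      have h4 : a (a⁻¹ x) = x := a.apply_symm_apply x
      have e3 := hγa (a⁻¹ x) hax
      rw [h4] at e3
      simp only [Subgroup.coe_mul, Subgroup.coe_inv, e3]
  have hXp : IsPGroup p X := by
    rintro ⟨κ, hκ, hκ2, q, hq, hκ3⟩
    obtain ⟨k, hk⟩ := hS ⟨q, hRS hq⟩
    have hk' : q ^ p ^ k = 1 := by simpa using congrArg Subtype.val hk
    have hpow : ∀ (n : ℕ), κ ^ n ∈ X ∧ ∀ x : P, (x : Ω) ∈ R → (((κ ^ n) x : P) : Ω) = q ^ n * x * (q ^ n)⁻¹ := by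
      intro n
      refine ⟨X.pow_mem ⟨hκ, hκ2, q, hq, hκ3⟩ n, ?_⟩
      induction n with
      | zero => intro x _; simp
      | succ n ih =>
        intro x hx
        have hx' : (((κ x : P)) : Ω) ∈ R := hinv κ hκ x hx
        rw [pow_succ, MulAut.mul_apply, ih (κ x) hx', hκ3 x hx, pow_succ]
        group
    -- κ ^ p ^ k stabilizes the chain P ≥ D ≥ 1
    have hμ := hpow (p ^ k)
    have hPp : IsPGroup p P := IsPGroup.of_injective hS (Subgroup.inclusion hPS)
      (Subgroup.inclusion_injective hPS)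
    obtain ⟨l, hl⟩ := H759.exists_pow_eq_one_of_chain hPp (κ ^ p ^ k) 2
      (fun i => if i = 0 then ⊤ else if i = 1 then R.subgroupOf P else ⊥) (by simp) (by simp)
      (by
        intro i hi x hx
        interval_cases i
        · simp
        · simp only [one_ne_zero, if_false, if_true] at hx ⊢
          exact hinv _ hμ.1.1 x hx
        · simp only [OfNat.ofNat_ne_zero, if_false, OfNat.ofNat_ne_one, Subgroup.mem_bot] at hx ⊢
          rw [hx, map_one])
      (by
        intro i hi x hx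
        interval_cases i
        · show x⁻¹ * (κ ^ p ^ k) x ∈ R.subgroupOf P
          rw [Subgroup.mem_subgroupOf]
          simpa using hμ.1.2.1 x
        · simp only [one_ne_zero, if_false, if_true] at hx
          show x⁻¹ * (κ ^ p ^ k) x ∈ (⊥ : Subgroup P)
          rw [Subgroup.mem_bot]
          apply Subtype.ext
          have := hμ.2 x hx
          rw [hk'] at this
          simp [this])
    refine ⟨k + l, ?_⟩
    apply Subtype.ext
    show κ ^ p ^ (k + l) = 1
    rw [pow_add, pow_mul]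
    exact hl
  have hXS := H759.le_autInducedBy_of_normal hPa X hXA hXn hXp
  have hg : H759.conjAut P g hgn ∈ X := by
    refine ⟨?_, fun x => ?_, g, hgR, fun x _ => H759.coe_conjAut hgn x⟩
    · apply H802.autInducedBy_le_autGroup F hPS
      rw [H802.mem_autInducedBy_iff]
      exact ⟨g, hRS hgR, fun x => H759.coe_conjAut hgn x⟩
    · rw [H759.coe_conjAut]
      have h1 : (x : Ω)⁻¹ * g * x ∈ R := by
        have := H759.StronglyClosed.conj_mem' hsc (hPS x.2) hgR
        exact this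
      have h2 := R.mul_mem h1 (R.inv_mem hgR)
      have h3 : (x : Ω)⁻¹ * g * x * g⁻¹ = (x : Ω)⁻¹ * (g * x * g⁻¹) := by group
      rwa [h3] at h2
  exact hXS (hXn α hα _ hg)

/-- **S5088** in the easy direction: the upper central series of a normal subgroup. -/
theorem exists_chain_of_isNormal [Finite S] {p : ℕ} [Fact p.Prime] (hS : IsPGroup p S)
    {Q : Subgroup Ω} (hQ : F.IsNormal Q) :
    ∃ (n : ℕ) (Qs : Fin (n + 1) → Subgroup Ω), Qs 0 = ⊥ ∧ Qs (Fin.last n) = Q ∧ Monotone Qs ∧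
      ∀ i : Fin n, F.StronglyClosed (Qs i.succ) ∧ ⁅Q, Qs i.succ⁆ ≤ Qs (Fin.castSucc i) := by
  haveI : Finite Q := H802.finite_of_le hQ.1
  have hQp : IsPGroup p Q := IsPGroup.of_injective hS (Subgroup.inclusion hQ.1)
    (Subgroup.inclusion_injective hQ.1)
  haveI : Group.IsNilpotent Q := hQp.isNilpotent
  obtain ⟨n, hn⟩ := Group.IsNilpotent.nilpotent Q
  refine ⟨n, fun i => (Subgroup.upperCentralSeries Q i).map Q.subtype, ?_, ?_, ?_, ?_⟩
  · show (Subgroup.upperCentralSeries Q 0).map Q.subtype = ⊥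
    rw [Subgroup.upperCentralSeries_zero, Subgroup.map_bot]
  · show (Subgroup.upperCentralSeries Q n).map Q.subtype = Q
    rw [hn, ← MonoidHom.range_eq_map, Subgroup.range_subtype]
  · intro i j hij
    exact Subgroup.map_mono (Subgroup.upperCentralSeries_mono Q hij)
  · intro i
    refine ⟨stronglyClosed_of_char hQ _, ?_⟩
    rw [Subgroup.commutator_le]
    rintro x hx _ ⟨y, hy, rfl⟩
    have hy' : y ∈ Subgroup.upperCentralSeries Q ((i : ℕ) + 1) := by simpa using hy
    have h1 := Subgroup.mem_upperCentralSeries_succ_iff.1 hy' ⟨x, hx⟩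
    refine ⟨⁅y, ⟨x, hx⟩⁆⁻¹, ?_, ?_⟩
    · exact Subgroup.inv_mem _ h1
    · rw [commutatorElement_inv]
      rfl

/-- **S5089**. -/
theorem core_ne_bot_iff [Finite S] {p : ℕ} [Fact p.Prime] (hS : IsPGroup p S)
    (hF : F.IsSaturated p) :
    F.core ≠ ⊥ ↔ ∃ Q : Subgroup Ω, Q ≠ ⊥ ∧ IsMulCommutative Q ∧ F.StronglyClosed Q := by
  constructor
  · intro hne
    have hcore : F.IsNormal F.core := H759.isNormal_core
    haveI : Finite F.core := H802.finite_of_le hcore.1
    have hp : IsPGroup p F.core := IsPGroup.of_injective hS (Subgroup.inclusion hcore.1)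
      (Subgroup.inclusion_injective hcore.1)
    haveI : Nontrivial F.core := (Subgroup.nontrivial_iff_ne_bot _).2 hne
    have hZ : Nontrivial (Subgroup.center F.core) := hp.center_nontrivial
    refine ⟨(Subgroup.center F.core).map F.core.subtype, ?_, ?_, stronglyClosed_of_char hcore _⟩
    · intro h0
      rw [Subgroup.map_eq_bot_iff_of_injective _ F.core.subtype_injective] at h0
      rw [h0] at hZ
      exact not_nontrivial _ hZ
    · refine ⟨⟨?_⟩⟩
      rintro ⟨_, x, hx, rfl⟩ ⟨_, y, hy, rfl⟩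
      apply Subtype.ext
      show (x : Ω) * (y : Ω) = y * x
      have := (Subgroup.mem_center_iff.1 hx y).symm
      exact congrArg Subtype.val this
  · rintro ⟨Q, hQ, hab, hsc⟩ hcore
    have hn : F.IsNormal Q := by
      refine H759.isNormal_of_abelian hS hF hsc ?_
      rw [Subgroup.commutator_eq_bot_iff_le_centralizer]
      intro x hx y hy
      have := hab.is_comm.comm ⟨y, hy⟩ ⟨x, hx⟩
      exact congrArg Subtype.val this
    apply hQ
    rw [eq_bot_iff, ← hcore]
    exact H759.IsNormal.le_core hn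

end Cfsg.Agent.H973
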