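import Cfsg.Agent.H973.TwoSubZ

/-!
# Primitive groups with a 2-transitive suborbit: basic facts
-/

set_option autoImplicit false

namespace Cfsg.Agent.H973.TwoSub

open Subgroup MulAction Cfsg.Agent.PermutationGroups.TwoTransitiveNormal

universe u v

/-- the stabilizer of `α` is 2-transitive on the orbit of `β` -/
structure Setup (G : Type u) {Ω : Type v} [Group G] [MulAction G Ω] (α β : Ω) : Prop where
  ne : β ≠ α
  two : ∀ a b c d : Ω, a ∈ orbit (stabilizer G α) β → b ∈ orbit (stabilizer G α) β →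
    c ∈ orbit (stabilizer G α) β → d ∈ orbit (stabilizer G α) β → a ≠ b → c ≠ d →
    ∃ g : G, g • α = α ∧ g • a = c ∧ g • b = d

variable {G : Type u} {Ω : Type v} [Group G] [MulAction G Ω] {α β : Ω}

theorem mem_orb {g : G} (hg : g • α = α) : g • β ∈ orbit (stabilizer G α) β :=
  ⟨⟨g, hg⟩, rfl⟩

theorem hamming (hs : Setup G α β) {ι : Type*} (D : ι → Set G)
    (hα : ∀ i, ∀ d ∈ D i, d • α = α) (h1 : ∀ i, (1 : G) ∈ D i)
    (hP : ∀ g : G, g • α = α → ∀ i, ∃ i', ∀ d ∈ D i, g * d * g⁻¹ ∈ D i')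
    (hF : ∀ i j k, i ≠ j → ∀ d₁ ∈ D i, ∀ d₂ ∈ D j, ∀ d' ∈ D k,
      (d₁ * d₂) • β = d' • β → d₁ • β = β ∨ d₂ • β = β)
    {i j : ι} (hij : i ≠ j) {d₁ d₂ : G} (hd₁ : d₁ ∈ D i) (hd₂ : d₂ ∈ D j)
    (hm₁ : d₁ • β ≠ β) (hm₂ : d₂ • β ≠ β) : False := by
  have hα₁ := hα i d₁ hd₁
  have hα₂ := hα j d₂ hd₂
  have hβ : β ∈ orbit (stabilizer G α) β := mem_orbit_self β
  have hne : (d₁ * d₂) • β ≠ β := by
    intro h
    rcases hF i j i hij d₁ hd₁ d₂ hd₂ 1 (h1 i) (by rw [h, one_smul]) with h | h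
    · exact hm₁ h
    · exact hm₂ h
  obtain ⟨g, hgα, hgβ, hg⟩ := hs.two β (d₁ • β) β ((d₁ * d₂) • β) hβ (mem_orb hα₁) hβ
    (mem_orb (by rw [mul_smul, hα₂, hα₁])) (Ne.symm hm₁) (Ne.symm hne)
  obtain ⟨i', hi'⟩ := hP g hgα i
  have h3 : (d₁ * d₂) • β = (g * d₁ * g⁻¹) • β := by
    rw [← hg, mul_smul, mul_smul]
    congr 2
    rw [eq_inv_smul_iff]
    exact hgβ
  rcases hF i j i' hij d₁ hd₁ d₂ hd₂ _ (hi' d₁ hd₁) h3 with h | h
  · exact hm₁ h
  · exact hm₂ h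

theorem trans_of_move (hs : Setup G α β) (K : Subgroup G) [hK : K.Normal] {d₀ : G} (hd₀ : d₀ ∈ K)
    (hα : d₀ • α = α) (hm : d₀ • β ≠ β) {γ : Ω} (hγ : γ ∈ orbit (stabilizer G α) β) :
    ∃ d ∈ K, d • α = α ∧ d • β = γ := by
  by_cases h : γ = β
  · subst h
    exact ⟨1, K.one_mem, one_smul _ _, one_smul _ _⟩
  · obtain ⟨g, hgα, hgβ, hg⟩ := hs.two β (d₀ • β) β γ (mem_orbit_self β) (mem_orb hα)
      (mem_orbit_self β) hγ (Ne.symm hm) (Ne.symm h)
    have hgα' : g⁻¹ • α = α := by rw [inv_smul_eq_iff]; exact hgα.symm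
    have hgβ' : g⁻¹ • β = β := by rw [inv_smul_eq_iff]; exact hgβ.symm
    refine ⟨g * d₀ * g⁻¹, hK.conj_mem _ hd₀ g, ?_, ?_⟩
    · rw [mul_smul, mul_smul, hgα', hα, hgα]
    · rw [mul_smul, mul_smul, hgβ', hg]

theorem exists_move [Finite G] [FaithfulSMul G Ω] [IsPreprimitive G Ω] (hne : β ≠ α)
    (K : Subgroup G) [hK : K.Normal] {k : G} (hk : k ∈ K) (hkα : k • α = α) (hk1 : k ≠ 1) :
    ∃ d ∈ K, d • α = α ∧ d • β ≠ β := by
  by_contra hcon
  push Not at hcon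
  have hnt : Nontrivial Ω := ⟨⟨_, _, hne⟩⟩
  obtain ⟨g, hg⟩ := MulAction.exists_smul_eq G α β
  let A : Subgroup G := K ⊓ stabilizer G α
  have hA : ∀ x, x ∈ A ↔ x ∈ K ∧ x • α = α := fun x => Iff.rfl
  -- `A` is normalised by `g`
  have hsub : ∀ x ∈ A, g⁻¹ * x * g ∈ A := by
    intro x hx
    refine (hA _).mpr ⟨by simpa using hK.conj_mem _ ((hA x).mp hx).1 g⁻¹, ?_⟩
    rw [mul_smul, mul_smul, hg, hcon x ((hA x).mp hx).1 ((hA x).mp hx).2, ← hg, inv_smul_smul]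
  have hgA : g ∈ normalizer (A : Set G) := by
    have h1 : g⁻¹ ∈ normalizer (A : Set G) := by
      have h2 : A.map (MulAut.conj g⁻¹).toMonoidHom ≤ A := by
        rintro _ ⟨x, hx, rfl⟩
        have := hsub x hx
        simpa using this
      have h3 : A.map (MulAut.conj g⁻¹).toMonoidHom = A :=
        Subgroup.eq_of_le_of_card_ge h2
          (Nat.card_congr (A.equivMapOfInjective _ (MulAut.conj g⁻¹).injective).toEquiv).le
      rw [Subgroup.mem_normalizer_iff]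
      intro y
      constructor
      · intro hy
        have h4 : (MulAut.conj g⁻¹).toMonoidHom y ∈ A.map (MulAut.conj g⁻¹).toMonoidHom := ⟨y, hy, rfl⟩
        rw [h3] at h4
        simpa using h4
      · intro hy
        rw [← h3] at hy
        obtain ⟨y', hy', h5⟩ := hy
        have h6 : y' = y := by
          have : g⁻¹ * y' * g = g⁻¹ * y * g := by simpa using h5
          exact mul_left_cancel (mul_right_cancel this)
        exact h6 ▸ hy'
    simpa using inv_mem h1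
  have hSA : stabilizer G α ≤ normalizer (A : Set G) := by
    intro s hs
    have key : ∀ s : G, s • α = α → ∀ y ∈ A, s * y * s⁻¹ ∈ A := by
      intro s hs y hy
      have hs' : s⁻¹ • α = α := by rw [inv_smul_eq_iff]; exact hs.symm
      refine (hA _).mpr ⟨hK.conj_mem _ ((hA y).mp hy).1 s, ?_⟩
      rw [mul_smul, mul_smul, hs', ((hA y).mp hy).2, hs]
    rw [Subgroup.mem_normalizer_iff]
    intro y
    refine ⟨key s hs y, fun hy => ?_⟩
    have hs' : s⁻¹ • α = α := by rw [inv_smul_eq_iff]; exact (hs : s • α = α).symm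
    have := key s⁻¹ hs' _ hy
    have h7 : s⁻¹ * (s * y * s⁻¹) * s⁻¹⁻¹ = y := by group
    rwa [h7] at this
  have hco : IsCoatom (stabilizer G α) :=
    IsPreprimitive.isCoatom_stabilizer_of_isPreprimitive G α
  have htop : normalizer (A : Set G) = ⊤ := by
    apply hco.2
    refine lt_of_le_of_ne hSA fun h => ?_
    rw [← h] at hgA
    exact hne (hg.symm.trans hgA)
  apply hk1
  apply FaithfulSMul.eq_of_smul_eq_smul (α := Ω)
  intro x
  obtain ⟨h, rfl⟩ := MulAction.exists_smul_eq G α x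
  have h1 : h⁻¹ ∈ normalizer (A : Set G) := htop ▸ mem_top _
  have h3 : h⁻¹ * k * h⁻¹⁻¹ ∈ A := (Subgroup.mem_normalizer_iff.mp h1 k).mp ⟨hk, hkα⟩
  have h4 := ((hA _).mp h3).2
  rw [inv_inv, mul_smul, mul_smul, inv_smul_eq_iff] at h4
  rw [h4, one_smul]

/-- application of `lemmaZ` -/
theorem zfinal [Finite G] [Finite Ω] (hs : Setup G α β)
    (hZ : ∀ (T : Type u) [Group T] [Finite T] (p : ℕ) [Fact p.Prime] (S : Sylow p T) (x : T),
      x ∈ (S : Subgroup T) →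
      (∀ g : T, g * x * g⁻¹ ∈ (S : Subgroup T) → g * x * g⁻¹ = x) → Cfsg.InZStar p x)
    (D : Subgroup G) (hDα : ∀ d ∈ D, d • α = α)
    (hDn : ∀ g : G, g • α = α → ∀ d ∈ D, g * d * g⁻¹ ∈ D) [IsSimpleGroup D]
    (hna : ¬ IsMulCommutative D) (hmove : ∃ d ∈ D, d • β ≠ β) {z : G} (hz : z ∈ D) (hz1 : z ≠ 1)
    (hzc : ∀ t ∈ D, t • β = β → t * z = z * t) : False := by
  obtain ⟨t₀, ht₀, hm⟩ := hmove
  have hDH : D ≤ stabilizer G α := hDα
  let T : Subgroup (stabilizer G α) := D.subgroupOf (stabilizer G α)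
  let e : T ≃* D := Subgroup.subgroupOfEquivOfLe hDH
  have hTn : T.Normal := by
    refine ⟨fun n hn g => ?_⟩
    exact hDn g g.2 n hn
  have hTs : IsSimpleGroup T := (MulEquiv.isSimpleGroup_congr e).mpr inferInstance
  have hTna : ¬ IsMulCommutative T := by
    intro h
    apply hna
    refine ⟨⟨fun a b => e.symm.injective ?_⟩⟩
    rw [map_mul, map_mul]
    exact h.is_comm.comm _ _
  let Γ := ↥(orbit (stabilizer G α) β)
  have h2 : ∀ a b c d : Γ, a ≠ b → c ≠ d → ∃ g : stabilizer G α, g • a = c ∧ g • b = d := by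
    intro a b c d hab hcd
    obtain ⟨g, hgα, hg1, hg2⟩ := hs.two a b c d a.2 b.2 c.2 d.2
      (fun h => hab (Subtype.ext h)) (fun h => hcd (Subtype.ext h))
    exact ⟨⟨g, hgα⟩, Subtype.ext hg1, Subtype.ext hg2⟩
  refine lemmaZ (Γ := Γ) h2 T hTna (fun p _ S x hxS hx => hZ T p S x hxS hx)
    (t₀ := ⟨t₀, hDH ht₀⟩) (x₀ := ⟨β, mem_orbit_self β⟩) (γ := ⟨β, mem_orbit_self β⟩)
    (z := ⟨z, hDH hz⟩) ht₀ ?_ hz ?_ ?_
  · intro h
    exact hm (congrArg Subtype.val h)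
  · intro h
    exact hz1 (congrArg Subtype.val h)
  · intro t ht htβ
    exact Subtype.ext (hzc t ht (congrArg Subtype.val htβ))

end Cfsg.Agent.H973.TwoSub
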