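import Cfsg.Agent.H973.TwoSubBase
import Cfsg.Agent.PermutationGroups.OnanScott

/-!
# Primitive groups with a 2-transitive suborbit: two commuting transitive normal subgroups
-/

set_option autoImplicit false

namespace Cfsg.Agent.H973.TwoSub

open Subgroup MulAction Cfsg.Agent.PermutationGroups.TwoTransitiveNormal
open Cfsg.Agent.PermutationGroups.OnanScott

universe u v

variable {G : Type u} {Ω : Type v} [Group G] [MulAction G Ω] {α β : Ω}

theorem regular_case [Finite G] [Finite Ω] [FaithfulSMul G Ω] [IsPreprimitive G Ω]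
    (hs : Setup G α β)
    (hZ : ∀ (T : Type u) [Group T] [Finite T] (p : ℕ) [Fact p.Prime] (S : Sylow p T) (x : T),
      x ∈ (S : Subgroup T) →
      (∀ g : T, g * x * g⁻¹ ∈ (S : Subgroup T) → g * x * g⁻¹ = x) → Cfsg.InZStar p x)
    (N M : Subgroup G) [hN : N.Normal] [hM : M.Normal]
    (hmin : ∀ K : Subgroup G, K.Normal → K ≤ N → K = ⊥ ∨ K = N) (hN0 : N ≠ ⊥) (hM0 : M ≠ ⊥)
    (hNM : N ⊓ M = ⊥) : False := by
  classical
  have hnt : Nontrivial Ω := ⟨⟨_, _, hs.ne⟩⟩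
  have hNtr : IsPretransitive N Ω := isPretransitive_of_normal_of_ne_bot N hN0
  have hMtr : IsPretransitive M Ω := isPretransitive_of_normal_of_ne_bot M hM0
  have hcomm : ∀ n ∈ N, ∀ c ∈ M, Commute n c := fun n hn c hc =>
    Subgroup.commute_of_normal_of_disjoint N M hN hM (disjoint_iff.mpr hNM) n c hn hc
  have hNsemi : ∀ n ∈ N, ∀ ω : Ω, n • ω = ω → n = 1 := by
    intro n hn ω h
    exact eq_of_commute_of_transitive M (fun m hm => ((hcomm n hn m hm).eq).symm) h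
  have hMsemi : ∀ c ∈ M, ∀ ω : Ω, c • ω = ω → c = 1 := by
    intro c hc ω h
    exact eq_of_commute_of_transitive N (fun m hm => (hcomm m hm c hc).eq) h
  -- the complement
  have hex : ∀ n : G, ∃ c ∈ M, (n * c) • α = α := by
    intro n
    obtain ⟨c, hc⟩ := hMtr.exists_smul_eq α (n⁻¹ • α)
    refine ⟨c, c.2, ?_⟩
    rw [mul_smul]
    have : (c : G) • α = n⁻¹ • α := hc
    rw [this, smul_inv_smul]
  have huniq : ∀ n c c' : G, c ∈ M → c' ∈ M → (n * c) • α = α → (n * c') • α = α → c = c' := by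
    intro n c c' hc hc' h h'
    rw [mul_smul] at h h'
    have h1 : c • α = c' • α := smul_left_cancel n (h.trans h'.symm)
    have h2 : (c'⁻¹ * c) • α = α := by rw [mul_smul, h1, inv_smul_smul]
    have h3 := hMsemi _ (M.mul_mem (M.inv_mem hc') hc) α h2
    exact (inv_mul_eq_one.mp h3).symm
  have hact : ∀ n ∈ N, ∀ c ∈ M, (n * c) • α = α → ∀ x ∈ N, (n * c) • (x • α) =
      (n * x * n⁻¹) • α := by
    intro n hn c hc h x hx
    have h1 : n * c * x = (n * x * n⁻¹) * (n * c) := by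
      calc n * c * x = n * (c * x) := by group
        _ = n * (x * c) := by rw [(hcomm x hx c hc).eq]
        _ = _ := by group
    rw [← mul_smul, h1, mul_smul, h]
  have hNinj : ∀ x ∈ N, ∀ y ∈ N, x • α = y • α → x = y := by
    intro x hx y hy h
    have h2 : (y⁻¹ * x) • α = α := by rw [mul_smul, h, inv_smul_smul]
    exact (inv_mul_eq_one.mp (hNsemi _ (N.mul_mem (N.inv_mem hy) hx) α h2)).symm
  -- `N` is non-abelian
  have hna : ¬ ∀ x ∈ N, ∀ y ∈ N, Commute x y := by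
    intro hab
    apply hN0
    rw [eq_bot_iff]
    intro n hn
    rw [mem_bot]
    obtain ⟨c, hc, hcα⟩ := hex n
    have h1 : n * c = 1 := by
      refine eq_of_commute_of_transitive N (fun m hm => ?_) hcα
      exact ((hab m hm n hn).mul_right (hcomm m hm c hc)).eq
    have h2 : n ∈ N ⊓ M := ⟨hn, by
      rw [eq_inv_of_mul_eq_one_left h1]; exact M.inv_mem hc⟩
    rwa [hNM, mem_bot] at h2
  obtain ⟨m, T, e, hm, hsimple, hTna, hTinj, hTN, hTn, hconj, htrans, he, hcoord⟩ :=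
    exists_coordinates N hmin hna
  obtain ⟨x', hx'⟩ := hNtr.exists_smul_eq α β
  obtain ⟨x, hxN⟩ := x'
  have hxβ : x • α = β := hx'
  clear hx'
  have hx1 : x ≠ 1 := by
    rintro rfl
    exact hs.ne (by rw [← hxβ, one_smul])
  -- action on `β`
  have hactβ : ∀ n ∈ N, ∀ c ∈ M, (n * c) • α = α → (n * c) • β = (n * x * n⁻¹) • α := by
    intro n hn c hc h
    rw [← hxβ]
    exact hact n hn c hc h x hxN
  have hfixβ : ∀ n ∈ N, ∀ c ∈ M, (n * c) • α = α → ((n * c) • β = β ↔ Commute n x) := by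
    intro n hn c hc h
    rw [hactβ n hn c hc h]
    constructor
    · intro h1
      rw [← hxβ] at h1
      have h2 := hNinj _ (hN.conj_mem _ hxN n) _ hxN h1
      exact mul_inv_eq_iff_eq_mul.mp h2
    · intro h1
      rw [h1.eq, mul_inv_cancel_right, hxβ]
  -- coordinates of elements of `T i`
  have hTcoord : ∀ i (t : G) (ht : t ∈ T i) j, j ≠ i → e ⟨t, hTN i ht⟩ j = 1 := by
    intro i t ht j hj
    have h1 : (⟨t, hTN i ht⟩ : N) = e.symm (Pi.mulSingle i ⟨t, ht⟩) := Subtype.ext (he i ⟨t, ht⟩).symm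
    rw [h1, MulEquiv.apply_symm_apply, Pi.mulSingle_eq_of_ne hj]
  have heone : ∀ n : N, (∀ i, e n i = 1) → (n : G) = 1 := by
    intro n h
    have h1 : e n = 1 := funext h
    rw [← map_one e] at h1
    exact congrArg Subtype.val (e.injective h1)
  obtain ⟨i₀, hi₀⟩ : ∃ i, e ⟨x, hxN⟩ i ≠ 1 := by
    by_contra hcon
    push Not at hcon
    exact hx1 (heone ⟨x, hxN⟩ hcon)
  -- only one non-trivial coordinate
  have hone : ∀ j, j ≠ i₀ → e ⟨x, hxN⟩ j = 1 := by
    intro j hj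
    by_contra hcon
    obtain ⟨s, hs1, hs2⟩ : ∃ t ∈ T i₀, ¬ Commute x t := by
      by_contra hc
      push Not at hc
      exact hi₀ ((hcoord ⟨x, hxN⟩ i₀).mpr hc)
    obtain ⟨t, ht1, ht2⟩ : ∃ t ∈ T j, ¬ Commute x t := by
      by_contra hc
      push Not at hc
      exact hcon ((hcoord ⟨x, hxN⟩ j).mpr hc)
    obtain ⟨c, hc, hcα⟩ := hex s
    obtain ⟨c', hc', hcα'⟩ := hex t
    refine hamming hs (fun i => {d : G | ∃ n ∈ T i, ∃ c ∈ M, d = n * c ∧ d • α = α})
      ?_ ?_ ?_ ?_ (Ne.symm hj) (d₁ := s * c) (d₂ := t * c')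
      ⟨s, hs1, c, hc, rfl, hcα⟩ ⟨t, ht1, c', hc', rfl, hcα'⟩ ?_ ?_
    · rintro i d ⟨n, hn, c, hc, rfl, h⟩
      exact h
    · intro i
      exact ⟨1, (T i).one_mem, 1, M.one_mem, (one_mul 1).symm, one_smul _ _⟩
    · intro g hg i
      obtain ⟨i', hi'⟩ := hconj g i
      refine ⟨i', ?_⟩
      rintro d ⟨n, hn, c, hc, rfl, h⟩
      refine ⟨g * n * g⁻¹, ?_, g * c * g⁻¹, hM.conj_mem _ hc g, by group, ?_⟩
      · rw [hi']
        exact ⟨n, hn, rfl⟩
      · have hg' : g⁻¹ • α = α := by rw [inv_smul_eq_iff]; exact hg.symm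
        rw [mul_smul, mul_smul, hg', h, hg]
    · rintro i j k hij d₁ ⟨n₁, hn₁, c₁, hc₁, rfl, h₁⟩ d₂ ⟨n₂, hn₂, c₂, hc₂, rfl, h₂⟩ d'
        ⟨n₃, hn₃, c₃, hc₃, rfl, h₃⟩ heq
      have hn₁N := hTN i hn₁
      have hn₂N := hTN j hn₂
      have hn₃N := hTN k hn₃
      rw [hfixβ n₁ hn₁N c₁ hc₁ h₁, hfixβ n₂ hn₂N c₂ hc₂ h₂]
      rw [mul_smul, hactβ n₂ hn₂N c₂ hc₂ h₂, hactβ n₃ hn₃N c₃ hc₃ h₃,
        hact n₁ hn₁N c₁ hc₁ h₁ _ (hN.conj_mem _ hxN n₂)] at heq
      have h4 := hNinj _ (hN.conj_mem _ (hN.conj_mem _ hxN n₂) n₁) _ (hN.conj_mem _ hxN n₃) heq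
      -- `w = n₃⁻¹ n₁ n₂` commutes with `x`
      have h5 : (n₃⁻¹ * n₁ * n₂) * x = x * (n₃⁻¹ * n₁ * n₂) := by
        calc (n₃⁻¹ * n₁ * n₂) * x = n₃⁻¹ * (n₁ * (n₂ * x * n₂⁻¹) * n₁⁻¹) * (n₁ * n₂) := by group
          _ = n₃⁻¹ * (n₃ * x * n₃⁻¹) * (n₁ * n₂) := by rw [h4]
          _ = _ := by group
      have h6 : ∀ l, e ((⟨n₃, hn₃N⟩ : N)⁻¹ * ⟨n₁, hn₁N⟩ * ⟨n₂, hn₂N⟩) l * e ⟨x, hxN⟩ l =
          e ⟨x, hxN⟩ l * e ((⟨n₃, hn₃N⟩ : N)⁻¹ * ⟨n₁, hn₁N⟩ * ⟨n₂, hn₂N⟩) l := by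
        intro l
        have h7 : ((⟨n₃, hn₃N⟩ : N)⁻¹ * ⟨n₁, hn₁N⟩ * ⟨n₂, hn₂N⟩) * ⟨x, hxN⟩ =
          ⟨x, hxN⟩ * ((⟨n₃, hn₃N⟩ : N)⁻¹ * ⟨n₁, hn₁N⟩ * ⟨n₂, hn₂N⟩) := Subtype.ext h5
        have h8 := congrFun (congrArg e h7) l
        rw [map_mul e _ (⟨x, hxN⟩ : N), map_mul e (⟨x, hxN⟩ : N) _] at h8
        exact h8
      -- an element of `T i` whose `i`-coordinate commutes with that of `x` commutes with `x`
      have h9 : ∀ i (n : G) (hn : n ∈ T i), e ⟨n, hTN i hn⟩ i * e ⟨x, hxN⟩ i =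
          e ⟨x, hxN⟩ i * e ⟨n, hTN i hn⟩ i → Commute n x := by
        intro i n hn h
        have h10 : (⟨n, hTN i hn⟩ : N) * ⟨x, hxN⟩ = ⟨x, hxN⟩ * ⟨n, hTN i hn⟩ := by
          apply e.injective
          rw [map_mul, map_mul]
          refine funext fun l => ?_
          by_cases hl : l = i
          · subst hl
            exact h
          · rw [Pi.mul_apply, Pi.mul_apply, hTcoord i n hn l hl, one_mul, mul_one]
        exact congrArg Subtype.val h10
      by_cases hki : k = i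
      · right
        subst hki
        have hji : j ≠ k := Ne.symm hij
        have h11 := h6 j
        rw [map_mul, map_mul, map_inv, Pi.mul_apply, Pi.mul_apply, Pi.inv_apply,
          hTcoord k n₃ hn₃ j hji, hTcoord k n₁ hn₁ j hji, inv_one, one_mul, one_mul] at h11
        exact h9 j n₂ hn₂ h11
      · left
        have h11 := h6 i
        rw [map_mul, map_mul, map_inv, Pi.mul_apply, Pi.mul_apply, Pi.inv_apply,
          hTcoord k n₃ hn₃ i (Ne.symm hki), hTcoord j n₂ hn₂ i hij, inv_one, one_mul, mul_one] at h11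
        exact h9 i n₁ hn₁ h11
    · rw [Ne, hfixβ s (hTN _ hs1) c hc hcα]
      exact fun h => hs2 h.symm
    · rw [Ne, hfixβ t (hTN _ ht1) c' hc' hcα']
      exact fun h => ht2 h.symm
  have hxT : x ∈ T i₀ := by
    have h1 : e ⟨x, hxN⟩ = Pi.mulSingle i₀ (e ⟨x, hxN⟩ i₀) := by
      refine funext fun j => ?_
      by_cases hj : j = i₀
      · subst hj
        rw [Pi.mulSingle_eq_same]
      · rw [Pi.mulSingle_eq_of_ne hj, hone j hj]
    have h2 : (⟨x, hxN⟩ : N) = e.symm (Pi.mulSingle i₀ (e ⟨x, hxN⟩ i₀)) := by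
      rw [← h1, MulEquiv.symm_apply_apply]
    have h3 : x = (e ⟨x, hxN⟩ i₀ : T i₀) := by
      rw [← he i₀ (e ⟨x, hxN⟩ i₀), ← h2]
    rw [h3]
    exact (e ⟨x, hxN⟩ i₀).2
  -- the diagonal subgroup moves `β`
  have hKn : (N ⊔ M).Normal := inferInstance
  have hKmem : ∀ k ∈ N ⊔ M, ∃ n ∈ N, ∃ c ∈ M, k = n * c := by
    intro k hk
    have h1 : k ∈ ((N ⊔ M : Subgroup G) : Set G) := hk
    rw [Subgroup.mul_normal] at h1
    obtain ⟨n, hn, c, hc, rfl⟩ := h1
    exact ⟨n, hn, c, hc, rfl⟩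
  have hmemK : ∀ n ∈ N, ∀ c ∈ M, n * c ∈ N ⊔ M := fun n hn c hc =>
    (N ⊔ M).mul_mem (mem_sup_left hn) (mem_sup_right hc)
  have hmove : ∃ d ∈ N ⊔ M, d • α = α ∧ d • β ≠ β := by
    obtain ⟨c, hc, hcα⟩ := hex x
    refine exists_move hs.ne (N ⊔ M) (hmemK x hxN c hc) hcα fun h => ?_
    have h2 : x ∈ N ⊓ M := ⟨hxN, by
      rw [eq_inv_of_mul_eq_one_left h]; exact M.inv_mem hc⟩
    rw [hNM, mem_bot] at h2
    exact hx1 h2
  obtain ⟨d₀, hd₀, hd₀α, hd₀β⟩ := hmove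
  -- `T i₀` is normal
  have hTnorm : (T i₀).Normal := by
    have key : ∀ h : G, h • α = α → ∀ y ∈ T i₀, h * y * h⁻¹ ∈ T i₀ := by
      intro h hh y hy
      obtain ⟨d, hd, hdα, hdβ⟩ := trans_of_move hs (N ⊔ M) hd₀ hd₀α hd₀β (mem_orb (β := β) hh)
      obtain ⟨n, hn, c, hc, rfl⟩ := hKmem d hd
      rw [hactβ n hn c hc hdα] at hdβ
      have hh' : h⁻¹ • α = α := by rw [inv_smul_eq_iff]; exact hh.symm
      have h1 : h • β = (h * x * h⁻¹) • α := by rw [mul_smul, mul_smul, hh', hxβ]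
      rw [h1] at hdβ
      have h2 := hNinj _ (hN.conj_mem _ hxN n) _ (hN.conj_mem _ hxN h) hdβ
      have h3 : h * x * h⁻¹ ∈ T i₀ := by
        rw [← h2]
        exact (Subgroup.mem_normalizer_iff.mp (hTn i₀ hn) x).mp hxT
      obtain ⟨j, hj⟩ := hconj h i₀
      have h4 : h * x * h⁻¹ ∈ T j := by
        rw [hj]; exact ⟨x, hxT, rfl⟩
      have h5 : j = i₀ := by
        by_contra hne
        have h6 : h * x * h⁻¹ = 1 := by
          refine heone ⟨h * x * h⁻¹, hTN _ h3⟩ fun l => ?_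
          by_cases hl : l = j
          · subst hl
            exact hTcoord i₀ _ h3 l hne
          · exact hTcoord j _ h4 l hl
        apply hx1
        calc x = h⁻¹ * (h * x * h⁻¹) * h := by group
          _ = 1 := by rw [h6]; group
      subst h5
      rw [hj]
      exact ⟨y, hy, rfl⟩
    refine ⟨fun y hy g => ?_⟩
    obtain ⟨n, hn⟩ := hNtr.exists_smul_eq α (g • α)
    have hn' : (n : G) • α = g • α := hn
    have h1 : ((n : G)⁻¹ * g) • α = α := by rw [mul_smul, ← hn', inv_smul_smul]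
    have h2 := key _ h1 y hy
    have h3 := (Subgroup.mem_normalizer_iff.mp (hTn i₀ n.2) _).mp h2
    have h4 : (n : G) * ((n : G)⁻¹ * g * y * ((n : G)⁻¹ * g)⁻¹) * (n : G)⁻¹ = g * y * g⁻¹ := by group
    rwa [h4] at h3
  have hTeq : T i₀ = N := by
    rcases hmin (T i₀) hTnorm (hTN i₀) with h | h
    · exfalso
      rw [h, mem_bot] at hxT
      exact hx1 hxT
    · exact h
  have hNs : IsSimpleGroup N := by
    rw [← hTeq]
    exact hsimple i₀
  -- the isomorphism of `N` with the diagonal subgroup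
  choose cc hccM hccα using hex
  have hccmul : ∀ a ∈ N, ∀ b ∈ N, cc (a * b) = cc a * cc b := by
    intro a ha b hb
    refine huniq (a * b) _ _ (hccM _) (M.mul_mem (hccM _) (hccM _)) (hccα _) ?_
    have : a * b * (cc a * cc b) = (a * cc a) * (b * cc b) := by
      calc a * b * (cc a * cc b) = a * (b * cc a) * cc b := by group
        _ = a * (cc a * b) * cc b := by rw [(hcomm b hb _ (hccM a)).eq]
        _ = _ := by group
    rw [this, mul_smul, hccα, hccα]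
  let f : N →* G :=
    { toFun := fun n => (n : G) * cc n
      map_one' := by
        have h1 := huniq 1 (cc 1) 1 (hccM 1) M.one_mem (hccα 1) (by rw [one_mul, one_smul])
        change ((1 : N) : G) * cc ((1 : N) : G) = 1
        rw [Subgroup.coe_one, h1, one_mul]
      map_mul' := fun a b => by
        change ((a * b : N) : G) * cc ((a * b : N) : G) = (a : G) * cc a * ((b : G) * cc b)
        rw [Subgroup.coe_mul, hccmul a a.2 b b.2]
        calc (a : G) * b * (cc a * cc b) = a * (b * cc a) * cc b := by group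
          _ = a * (cc a * b) * cc b := by rw [(hcomm b b.2 _ (hccM a)).eq]
          _ = _ := by group }
  have hf : ∀ n : N, f n = (n : G) * cc n := fun n => rfl
  have hfinj : Function.Injective f := by
    rw [injective_iff_map_eq_one]
    intro n hn
    rw [hf] at hn
    have h2 : (n : G) ∈ N ⊓ M := ⟨n.2, by
      rw [eq_inv_of_mul_eq_one_left hn]; exact M.inv_mem (hccM _)⟩
    rw [hNM, mem_bot] at h2
    exact Subtype.ext h2
  let D : Subgroup G := f.range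
  let eD : N ≃* D := MonoidHom.ofInjective hfinj
  have hDs : IsSimpleGroup D := (MulEquiv.isSimpleGroup_congr eD).mp hNs
  have hDna : ¬ IsMulCommutative D := by
    intro h
    apply hna
    intro a ha b hb
    have h1 : (⟨a, ha⟩ : N) * ⟨b, hb⟩ = ⟨b, hb⟩ * ⟨a, ha⟩ := by
      apply eD.injective
      rw [map_mul, map_mul]
      exact h.is_comm.comm _ _
    exact congrArg Subtype.val h1
  have hDmem : ∀ d : G, d ∈ N ⊔ M → d • α = α → d ∈ D := by
    intro d hd hdα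
    obtain ⟨n, hn, c, hc, rfl⟩ := hKmem d hd
    refine ⟨⟨n, hn⟩, ?_⟩
    rw [hf]
    congr 1
    exact huniq n _ _ (hccM _) hc (hccα _) hdα
  have hDα : ∀ d ∈ D, d • α = α := by
    rintro _ ⟨n, rfl⟩
    exact hccα _
  have hDK : D ≤ N ⊔ M := by
    rintro _ ⟨n, rfl⟩
    exact hmemK _ n.2 _ (hccM _)
  refine zfinal hs hZ D hDα ?_ hDna ⟨d₀, hDmem d₀ hd₀ hd₀α, hd₀β⟩ (z := f ⟨x, hxN⟩)
    ⟨⟨x, hxN⟩, rfl⟩ ?_ ?_
  · intro g hg d hd
    refine hDmem _ (hKn.conj_mem _ (hDK hd) g) ?_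
    have hg' : g⁻¹ • α = α := by rw [inv_smul_eq_iff]; exact hg.symm
    rw [mul_smul, mul_smul, hg', hDα d hd, hg]
  · intro h
    rw [← map_one f] at h
    exact hx1 (congrArg Subtype.val (hfinj h))
  · rintro _ ⟨n, rfl⟩ hfix
    have h1 : Commute (n : G) x := (hfixβ n n.2 _ (hccM _) (hccα _)).mp hfix
    have h2 : n * ⟨x, hxN⟩ = ⟨x, hxN⟩ * n := Subtype.ext h1.eq
    rw [← map_mul, ← map_mul, h2]

end Cfsg.Agent.H973.TwoSub
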