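import Cfsg.Agent.H973.TwoSubNon
import Cfsg.Agent.H973.TwoSubReg

/-!
# Primitive groups with a 2-transitive suborbit (modulo `Z*_p`)
-/

set_option autoImplicit false

namespace Cfsg.Agent.H973.TwoSub

open Subgroup MulAction Cfsg.Agent.PermutationGroups.TwoTransitiveNormal

universe u v

theorem main {G : Type u} {Ω : Type v} [Group G] [Finite G] [MulAction G Ω] [FaithfulSMul G Ω]
    [Finite Ω]
    (hZ : ∀ (T : Type u) [Group T] [Finite T] (p : ℕ) [Fact p.Prime] (S : Sylow p T) (x : T),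
      x ∈ (S : Subgroup T) →
      (∀ g : T, g * x * g⁻¹ ∈ (S : Subgroup T) → g * x * g⁻¹ = x) → Cfsg.InZStar p x)
    (hprim : MulAction.IsPreprimitive G Ω) (α β : Ω) (hβ : β ≠ α)
    (h2t : MulAction.IsMultiplyPretransitive ↥(MulAction.stabilizer G α)
      ↥(MulAction.orbit ↥(MulAction.stabilizer G α) β) 2) :
    (∃ T : Subgroup G, T.Normal ∧ IsSimpleGroup ↥T ∧ ¬ IsMulCommutative ↥T ∧
      Subgroup.centralizer (T : Set G) = ⊥) ∨
    (∃ N : Subgroup G, N.Normal ∧ N ≠ ⊥ ∧ (∀ M : Subgroup G, M.Normal → M ≠ ⊥ → N ≤ M) ∧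
      MulAction.IsPretransitive ↥N Ω ∧ ∀ ω : Ω, MulAction.stabilizer ↥N ω = ⊥) := by
  have hnt : Nontrivial Ω := ⟨⟨_, _, hβ⟩⟩
  have hs : Setup G α β := by
    refine ⟨hβ, fun a b c d ha hb hc hd hab hcd => ?_⟩
    have h2 : ∀ (a b c d : ↥(MulAction.orbit ↥(MulAction.stabilizer G α) β)), a ≠ b → c ≠ d →
        ∃ g : ↥(MulAction.stabilizer G α), g • a = c ∧ g • b = d := fun a b c d hab hcd =>
      MulAction.is_two_pretransitive_iff.mp h2t hab hcd
    obtain ⟨g, hg1, hg2⟩ := h2 ⟨a, ha⟩ ⟨b, hb⟩ ⟨c, hc⟩ ⟨d, hd⟩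
      (fun h => hab (congrArg Subtype.val h)) (fun h => hcd (congrArg Subtype.val h))
    exact ⟨g, g.2, congrArg Subtype.val hg1, congrArg Subtype.val hg2⟩
  -- a minimal normal subgroup
  have hGnt : (⊤ : Subgroup G) ≠ ⊥ := by
    intro h
    obtain ⟨g, hg⟩ := MulAction.exists_smul_eq G α β
    have h1 : g ∈ (⊥ : Subgroup G) := h ▸ mem_top g
    rw [mem_bot] at h1
    rw [h1, one_smul] at hg
    exact hβ hg.symm
  have hfin : {N : Subgroup G | N.Normal ∧ N ≠ ⊥}.Finite := Set.toFinite _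
  have hne : {N : Subgroup G | N.Normal ∧ N ≠ ⊥}.Nonempty := ⟨⊤, inferInstance, hGnt⟩
  obtain ⟨N, ⟨hN, hN0⟩, hNmin⟩ := hfin.exists_minimal hne
  have hmin : ∀ K : Subgroup G, K.Normal → K ≤ N → K = ⊥ ∨ K = N := by
    intro K hK hKN
    by_cases h : K = ⊥
    · exact Or.inl h
    · exact Or.inr (le_antisymm hKN (hNmin ⟨hK, h⟩ hKN))
  have hNtr : IsPretransitive N Ω := isPretransitive_of_normal_of_ne_bot N hN0
  by_cases hreg : ∀ n ∈ N, n • α = α → n = 1
  · right
    refine ⟨N, hN, hN0, ?_, hNtr, ?_⟩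
    · intro M hM hM0
      by_contra hNM
      have h1 : N ⊓ M = ⊥ := by
        rcases hmin (N ⊓ M) inferInstance inf_le_left with h | h
        · exact h
        · exact absurd (inf_eq_left.mp h) hNM
      exact regular_case hs hZ N M hmin hN0 hM0 h1
    · intro ω
      rw [eq_bot_iff]
      intro n hn
      obtain ⟨a, ha⟩ := hNtr.exists_smul_eq α ω
      have ha' : (a : G) • α = ω := ha
      have hn' : (n : G) • ω = ω := hn
      have h1 : ((a : G)⁻¹ * n * a) • α = α := by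
        rw [mul_smul, mul_smul, ha', hn', ← ha', inv_smul_smul]
      have h2 := hreg _ (N.mul_mem (N.mul_mem (N.inv_mem a.2) n.2) a.2) h1
      rw [mem_bot]
      apply Subtype.ext
      calc (n : G) = a * ((a : G)⁻¹ * n * a) * (a : G)⁻¹ := by group
        _ = 1 := by rw [h2]; group
  · left
    push Not at hreg
    obtain ⟨k, hk, hkα, hk1⟩ := hreg
    exact ⟨N, hN, nonregular_case hs hZ N hmin hk hkα hk1⟩

end Cfsg.Agent.H973.TwoSub
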