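import Cfsg.Agent.H973.TwoSubBase
import Cfsg.Agent.PermutationGroups.OnanScott

/-!
# Primitive groups with a 2-transitive suborbit: a non-regular minimal normal subgroup
-/

set_option autoImplicit false

namespace Cfsg.Agent.H973.TwoSub

open Subgroup MulAction Cfsg.Agent.PermutationGroups.TwoTransitiveNormal
open Cfsg.Agent.PermutationGroups.OnanScott
open scoped Pointwise

universe u v

variable {G : Type u} {Ω : Type v} [Group G] [MulAction G Ω] {α β : Ω}

theorem block_single [Finite G] [FaithfulSMul G Ω] [IsPreprimitive G Ω]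
    (hs : Setup G α β) (N : Subgroup G) [hN : N.Normal]
    (hmin : ∀ K : Subgroup G, K.Normal → K ≤ N → K = ⊥ ∨ K = N)
    {T : Type*} [Group T] [IsSimpleGroup T] (hTna : ¬ IsMulCommutative T) {m : ℕ}
    (e : N ≃* (Fin m → T)) (c : Fin m → Fin m)
    (hr : ∀ n : N, (n : G) • α = α → ∀ j,
      ((e.symm (fun i => if c i = j then e n i else 1) : N) : G) • α = α)
    (hc : ∀ g : G, g • α = α → ∀ σ : Equiv.Perm (Fin m),
      (∀ (n : N) i, e (MulAut.conjNormal g n) (σ i) = 1 ↔ e n i = 1) →
        ∀ i i', c i = c i' → c (σ i) = c (σ i'))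
    {k : G} (hk : k ∈ N) (hkα : k • α = α) (hk1 : k ≠ 1) : ∀ i i', c i = c i' := by
  classical
  have hnt : Nontrivial Ω := ⟨⟨_, _, hs.ne⟩⟩
  have hN0 : N ≠ ⊥ := by
    rintro rfl
    rw [mem_bot] at hk
    exact hk1 hk
  have hNtr : IsPretransitive N Ω := isPretransitive_of_normal_of_ne_bot N hN0
  -- restriction to a block
  let π : Fin m → (Fin m → T) →* (Fin m → T) := fun j =>
    { toFun := fun x i => if c i = j then x i else 1
      map_one' := by
        refine funext fun i => ?_
        simp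
      map_mul' := fun x y => by
        refine funext fun i => ?_
        by_cases h : c i = j
        · simp [h]
        · simp [h] }
  let R : Fin m → N →* N := fun j => e.symm.toMonoidHom.comp ((π j).comp e.toMonoidHom)
  have hR : ∀ j n, R j n = e.symm (fun i => if c i = j then e n i else 1) := fun j n => rfl
  have heR : ∀ j n i, e (R j n) i = if c i = j then e n i else 1 := by
    intro j n i
    rw [hR, MulEquiv.apply_symm_apply]
  have hR1 : ∀ j (n : N), (n : G) • α = α → ((R j n : N) : G) • α = α := fun j n h => hr n h j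
  obtain ⟨n₀, hn₀⟩ := hNtr.exists_smul_eq α β
  have hn₀' : (n₀ : G) • α = β := hn₀
  have hR2 : ∀ j n, ((n : N) : G) • β = β → ((R j n : N) : G) • β = β := by
    intro j n h
    have h1 : ((n₀⁻¹ * n * n₀ : N) : G) • α = α := by
      change ((n₀ : G)⁻¹ * n * n₀) • α = α
      rw [mul_smul, mul_smul, hn₀', h, ← hn₀', inv_smul_smul]
    have h2 := hR1 j _ h1
    have h3 : R j (n₀⁻¹ * n * n₀) = n₀⁻¹ * R j n * n₀ := by
      apply e.injective
      refine funext fun i => ?_
      rw [heR, map_mul e (n₀⁻¹ * R j n), map_mul e (n₀⁻¹), map_mul e (n₀⁻¹ * n), map_mul e (n₀⁻¹),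
        Pi.mul_apply, Pi.mul_apply, Pi.mul_apply, Pi.mul_apply, heR]
      by_cases h4 : c i = j
      · rw [if_pos h4, if_pos h4]
      · rw [if_neg h4, if_neg h4, mul_one, map_inv, Pi.inv_apply, inv_mul_cancel]
    rw [h3] at h2
    have h5 : ((n₀ : G)⁻¹ * (R j n : N) * n₀) • α = α := h2
    rw [mul_smul, mul_smul, hn₀', inv_smul_eq_iff, hn₀'] at h5
    exact h5
  -- the family
  let D : Fin m → Set G := fun j => {d | ∃ n : N, (n : G) = d ∧ d • α = α ∧
    ∀ i, c i ≠ j → e n i = 1}
  have hone : ∀ n : N, (∀ i, e n i = 1) → n = 1 := by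
    intro n h
    apply e.injective
    rw [map_one]
    exact funext h
  have hR3 : ∀ j (n : N), (∀ i, c i ≠ j → e n i = 1) → R j n = n := by
    intro j n h
    apply e.injective
    refine funext fun i => ?_
    rw [heR]
    by_cases h4 : c i = j
    · rw [if_pos h4]
    · rw [if_neg h4, h i h4]
  have hR4 : ∀ j l (n : N), l ≠ j → (∀ i, c i ≠ j → e n i = 1) → R l n = 1 := by
    intro j l n hlj h
    apply e.injective
    refine funext fun i => ?_
    rw [heR, map_one, Pi.one_apply]
    by_cases h4 : c i = l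
    · rw [if_pos h4]
      exact h i (h4 ▸ hlj)
    · rw [if_neg h4]
  have hperm : ∀ g : G, ∃ σ : Equiv.Perm (Fin m),
      ∀ (n : N) i, e (MulAut.conjNormal g n) (σ i) = 1 ↔ e n i = 1 := by
    intro g
    obtain ⟨σ, hσ⟩ := exists_perm hTna (e.symm.trans ((MulAut.conjNormal g).trans e))
    refine ⟨σ, fun n i => ?_⟩
    have h1 := hσ (e n) i
    rw [← h1]
    change _ ↔ e (MulAut.conjNormal g (e.symm (e n))) (σ i) = 1
    rw [MulEquiv.symm_apply_apply]
  have hP0 : ∀ g : G, g • α = α → ∀ d : G, d • α = α → (g * d * g⁻¹) • α = α := by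
    intro g hg d hd
    have hg' : g⁻¹ • α = α := by rw [inv_smul_eq_iff]; exact hg.symm
    rw [mul_smul, mul_smul, hg', hd, hg]
  have hP : ∀ g : G, g • α = α → ∀ i, ∃ i', ∀ d ∈ D i, g * d * g⁻¹ ∈ D i' := by
    intro g hg j
    obtain ⟨σ, hσ⟩ := hperm g
    by_cases hj : ∃ i₁, c i₁ = j
    · obtain ⟨i₁, rfl⟩ := hj
      refine ⟨c (σ i₁), ?_⟩
      rintro d ⟨n, rfl, hd, hn⟩
      refine ⟨MulAut.conjNormal g n, MulAut.conjNormal_apply g n, hP0 g hg _ hd, fun l hl => ?_⟩
      obtain ⟨i, rfl⟩ := σ.surjective l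
      rw [hσ]
      refine hn i fun h => hl ?_
      exact hc g hg σ hσ i i₁ h
    · refine ⟨j, ?_⟩
      rintro d ⟨n, rfl, hd, hn⟩
      have h1 : n = 1 := hone n fun i => hn i fun h => hj ⟨i, h⟩
      subst h1
      refine ⟨1, ?_, ?_, ?_⟩
      · simp
      · rw [Subgroup.coe_one, mul_one, mul_inv_cancel, one_smul]
      · intro i _
        rw [map_one]; rfl
  have hF : ∀ i j k, i ≠ j → ∀ d₁ ∈ D i, ∀ d₂ ∈ D j, ∀ d' ∈ D k,
      (d₁ * d₂) • β = d' • β → d₁ • β = β ∨ d₂ • β = β := by
    rintro i j k hij _ ⟨n₁, rfl, hα₁, h₁⟩ _ ⟨n₂, rfl, hα₂, h₂⟩ _ ⟨n₃, rfl, hα₃, h₃⟩ heq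
    have hw : ((n₃⁻¹ * (n₁ * n₂) : N) : G) • β = β := by
      change ((n₃ : G)⁻¹ * ((n₁ : G) * n₂)) • β = β
      rw [mul_smul, heq, inv_smul_smul]
    by_cases hki : k = i
    · right
      have h4 := hR2 j _ hw
      rw [map_mul, map_mul, map_inv, hR4 k j n₃ (fun h => hij (by rw [h, hki])) h₃,
        hR4 i j n₁ (Ne.symm hij) h₁, hR3 j n₂ h₂, inv_one, one_mul, one_mul] at h4
      exact h4
    · left
      have h4 := hR2 i _ hw
      rw [map_mul, map_mul, map_inv, hR4 k i n₃ (Ne.symm hki) h₃, hR3 i n₁ h₁,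
        hR4 j i n₂ hij h₂, inv_one, one_mul, mul_one] at h4
      exact h4
  have hD1 : ∀ i, (1 : G) ∈ D i := by
    intro i
    exact ⟨1, rfl, one_smul _ _, fun l _ => by rw [map_one]; rfl⟩
  have hham : ∀ i j, i ≠ j → ∀ d₁ ∈ D i, ∀ d₂ ∈ D j, d₁ • β ≠ β → d₂ • β ≠ β → False := by
    intro i j hij d₁ hd₁ d₂ hd₂ hm₁ hm₂
    refine hamming hs D ?_ hD1 hP hF hij hd₁ hd₂ hm₁ hm₂
    rintro i d ⟨n, _, h, _⟩
    exact h
  -- some block moves `β`
  obtain ⟨d, hdN, hdα, hdβ⟩ := exists_move hs.ne N hk hkα hk1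
  obtain ⟨j₁, hj₁⟩ : ∃ j, ((R j ⟨d, hdN⟩ : N) : G) • β ≠ β := by
    by_contra hcon
    push Not at hcon
    have key : ∀ s : Finset (Fin m),
        ((e.symm (fun i => if c i ∈ s then e ⟨d, hdN⟩ i else 1) : N) : G) • β = β := by
      intro s
      induction s using Finset.induction_on with
      | empty =>
        have h1 : (fun i => if c i ∈ (∅ : Finset (Fin m)) then e ⟨d, hdN⟩ i else 1) =
            (1 : Fin m → T) := by
          refine funext fun i => ?_
          simp
        rw [h1, map_one, Subgroup.coe_one, one_smul]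
      | insert j s hj ih =>
        have h1 : e.symm (fun i => if c i ∈ insert j s then e ⟨d, hdN⟩ i else 1) =
            R j ⟨d, hdN⟩ * e.symm (fun i => if c i ∈ s then e ⟨d, hdN⟩ i else 1) := by
          apply e.injective
          refine funext fun i => ?_
          rw [map_mul, Pi.mul_apply, heR, MulEquiv.apply_symm_apply, MulEquiv.apply_symm_apply]
          by_cases h2 : c i = j
          · have h3 : c i ∉ s := h2 ▸ hj
            rw [if_pos h2, if_neg h3, mul_one, if_pos (by rw [h2]; exact Finset.mem_insert_self _ _)]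
          · rw [if_neg h2, one_mul]
            simp [Finset.mem_insert, h2]
        rw [h1, Subgroup.coe_mul, mul_smul, ih, hcon j]
    have h1 := key Finset.univ
    simp only [Finset.mem_univ, if_true] at h1
    have h2 : e.symm (fun i => e ⟨d, hdN⟩ i) = ⟨d, hdN⟩ := e.symm_apply_apply _
    rw [h2] at h1
    exact hdβ h1
  have hd₁ : ((R j₁ ⟨d, hdN⟩ : N) : G) ∈ D j₁ := by
    refine ⟨_, rfl, hR1 j₁ _ hdα, fun i hi => ?_⟩
    rw [heR, if_neg hi]
  set n₁ : N := R j₁ ⟨d, hdN⟩ with hn₁
  have hother : ∀ j, j ≠ j₁ → ∀ b ∈ D j, b • β = β := by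
    intro j hj b hb
    by_contra hcon
    exact hham j j₁ hj b hb _ hd₁ hcon hj₁
  have hother' : ∀ j, j ≠ j₁ → ∀ b ∈ D j, ∀ g : G, g • α = α → b • (g • β) = g • β := by
    rintro j hj _ ⟨n, rfl, hnα, hn⟩ g hg
    obtain ⟨a, haN, haα, haβ⟩ := trans_of_move hs N hdN hdα hdβ (mem_orb (β := β) hg)
    have haα' : a⁻¹ • α = α := by rw [inv_smul_eq_iff]; exact haα.symm
    have h1 : a⁻¹ * (n : G) * a⁻¹⁻¹ ∈ D j := by
      refine ⟨(⟨a, haN⟩ : N)⁻¹ * n * ⟨a, haN⟩, by simp, hP0 _ haα' _ hnα, fun i hi => ?_⟩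
      rw [map_mul, map_mul, Pi.mul_apply, Pi.mul_apply, hn i hi, mul_one, map_inv, Pi.inv_apply,
        inv_mul_cancel]
    have h2 := hother j hj _ h1
    rw [inv_inv, mul_smul, mul_smul, haβ, inv_smul_eq_iff, haβ] at h2
    exact h2
  have hinv : ∀ g : G, g • α = α → ∀ σ : Equiv.Perm (Fin m),
      (∀ (n : N) i, e (MulAut.conjNormal g n) (σ i) = 1 ↔ e n i = 1) →
        ∀ i, c i = j₁ → c (σ i) = j₁ := by
    intro g hg σ hσ i hi
    by_contra hcon
    have h1 : g * (n₁ : G) * g⁻¹ ∈ D (c (σ i)) := by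
      obtain ⟨n, hn, hnα, hn2⟩ := hd₁
      have hnn : n = n₁ := Subtype.ext hn
      subst hnn
      refine ⟨MulAut.conjNormal g n₁, MulAut.conjNormal_apply g n₁, hP0 g hg _ hnα, fun l hl => ?_⟩
      obtain ⟨i', rfl⟩ := σ.surjective l
      rw [hσ]
      refine hn2 i' fun h => hl ?_
      exact hc g hg σ hσ i' i (h.trans hi.symm)
    have h2 := hother' _ hcon _ h1 g hg
    rw [mul_smul, mul_smul, inv_smul_smul] at h2
    exact hj₁ (smul_left_cancel g h2)
  -- the normal subgroup given by the block `j₁`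
  let P' : Subgroup N :=
    { carrier := {n | ∀ i, c i ≠ j₁ → e n i = 1}
      one_mem' := fun i _ => by rw [map_one]; rfl
      mul_mem' := fun {a b} ha hb i hi => by
        rw [map_mul, Pi.mul_apply, ha i hi, hb i hi, mul_one]
      inv_mem' := fun {a} ha i hi => by rw [map_inv, Pi.inv_apply, ha i hi, inv_one] }
  have hP'mem : ∀ n, n ∈ P' ↔ ∀ i, c i ≠ j₁ → e n i = 1 := fun n => Iff.rfl
  let P : Subgroup G := P'.map N.subtype
  have hPmem : ∀ n : N, (n : G) ∈ P ↔ n ∈ P' := by
    intro n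
    constructor
    · rintro ⟨y, hy, hyn⟩
      have : y = n := Subtype.ext hyn
      exact this ▸ hy
    · intro h
      exact ⟨n, h, rfl⟩
  have hPnorm : P.Normal := by
    have key1 : ∀ g : G, g • α = α → ∀ n : N, n ∈ P' → MulAut.conjNormal g n ∈ P' := by
      intro g hg n hn
      obtain ⟨σ, hσ⟩ := hperm g
      rw [hP'mem]
      intro l hl
      obtain ⟨i, rfl⟩ := σ.surjective l
      rw [hσ]
      refine hn i fun h => hl ?_
      exact hinv g hg σ hσ i h
    have key2 : ∀ a n : N, n ∈ P' → a * n * a⁻¹ ∈ P' := by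
      intro a n hn i hi
      rw [map_mul, map_mul, Pi.mul_apply, Pi.mul_apply, hn i hi, mul_one, map_inv, Pi.inv_apply,
        mul_inv_cancel]
    refine ⟨?_⟩
    rintro _ ⟨n, hn, rfl⟩ g
    obtain ⟨a, ha⟩ := hNtr.exists_smul_eq α (g • α)
    have ha' : (a : G) • α = g • α := ha
    have h1 : ((a : G)⁻¹ * g) • α = α := by rw [mul_smul, ← ha', inv_smul_smul]
    have h2 := key2 a _ (key1 _ h1 n hn)
    have h3 : g * N.subtype n * g⁻¹ =
        ((a * MulAut.conjNormal ((a : G)⁻¹ * g) n * a⁻¹ : N) : G) := by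
      rw [Subgroup.coe_mul, Subgroup.coe_mul, MulAut.conjNormal_apply, Subgroup.coe_inv]
      simp only [Subgroup.subtype_apply]
      group
    rw [h3]
    exact (hPmem _).mpr h2
  have hPN : P = N := by
    rcases hmin P hPnorm (map_subtype_le P') with h | h
    · exfalso
      have h1 : (n₁ : G) ∈ P := by
        rw [hPmem, hP'mem]
        intro i hi
        rw [hn₁, heR, if_neg hi]
      rw [h, mem_bot] at h1
      apply hj₁
      rw [h1, one_smul]
    · exact h
  have hall : ∀ i, c i = j₁ := by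
    intro i
    by_contra hcon
    obtain ⟨t, ht⟩ := exists_ne (1 : T)
    have h1 : ((e.symm (Pi.mulSingle i t) : N) : G) ∈ P := by
      rw [hPN]; exact (e.symm (Pi.mulSingle i t) : N).2
    rw [hPmem, hP'mem] at h1
    have h2 := h1 i hcon
    rw [MulEquiv.apply_symm_apply, Pi.mulSingle_eq_same] at h2
    exact ht h2
  intro i i'
  rw [hall i, hall i']

theorem nonregular_case [Finite G] [Finite Ω] [FaithfulSMul G Ω] [IsPreprimitive G Ω]
    (hs : Setup G α β)
    (hZ : ∀ (T : Type u) [Group T] [Finite T] (p : ℕ) [Fact p.Prime] (S : Sylow p T) (x : T),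
      x ∈ (S : Subgroup T) →
      (∀ g : T, g * x * g⁻¹ ∈ (S : Subgroup T) → g * x * g⁻¹ = x) → Cfsg.InZStar p x)
    (N : Subgroup G) [hN : N.Normal]
    (hmin : ∀ K : Subgroup G, K.Normal → K ≤ N → K = ⊥ ∨ K = N)
    {k : G} (hk : k ∈ N) (hkα : k • α = α) (hk1 : k ≠ 1) :
    IsSimpleGroup N ∧ ¬ IsMulCommutative N ∧ centralizer (N : Set G) = ⊥ := by
  classical
  have hnt : Nontrivial Ω := ⟨⟨_, _, hs.ne⟩⟩
  have hN0 : N ≠ ⊥ := by
    rintro rfl
    rw [mem_bot] at hk
    exact hk1 hk
  have hNtr : IsPretransitive N Ω := isPretransitive_of_normal_of_ne_bot N hN0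
  have hcen : centralizer (N : Set G) = ⊥ := by
    by_contra hne
    have hCtr : IsPretransitive (centralizer (N : Set G)) Ω :=
      isPretransitive_of_normal_of_ne_bot _ hne
    exact hk1 (eq_of_commute_of_transitive (centralizer (N : Set G))
      (fun m hm => (Subgroup.mem_centralizer_iff.mp hm k hk).symm) hkα)
  have hna : ¬ ∀ x ∈ N, ∀ y ∈ N, Commute x y := by
    intro h
    apply hk1
    have h1 : k ∈ centralizer (N : Set G) :=
      Subgroup.mem_centralizer_iff.mpr fun y hy => (h y hy k hk).eq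
    rwa [hcen, mem_bot] at h1
  have hco : IsCoatom (stabilizer G α) :=
    IsPreprimitive.isCoatom_stabilizer_of_isPreprimitive G α
  obtain ⟨T, instT, m, e, hTs, hTna, hm, hcase⟩ := onan_scott N hmin hna (stabilizer G α)
    (by
      intro g
      obtain ⟨n, hn⟩ := hNtr.exists_smul_eq α (g⁻¹ • α)
      refine ⟨n, n.2, ?_⟩
      have hn' : (n : G) • α = g⁻¹ • α := hn
      rw [mem_stabilizer_iff, mul_smul, hn', smul_inv_smul])
    (by
      intro h
      obtain ⟨n, hn⟩ := hNtr.exists_smul_eq α β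
      have hn' : (n : G) • α = β := hn
      have h1 : (n : G) • α = α := h n.2
      exact hs.ne (hn'.symm.trans h1))
    (by
      intro X hXN hKX hKn
      have h1 : (((stabilizer G α ⊔ X : Subgroup G)) : Set G) =
          (stabilizer G α : Set G) * (X : Set G) :=
        Subgroup.coe_mul_of_left_le_normalizer_right _ _ hKn
      rcases eq_or_lt_of_le (le_sup_left : stabilizer G α ≤ stabilizer G α ⊔ X) with h | h
      · left
        refine le_antisymm (le_inf ?_ hXN) hKX
        rw [h]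
        exact le_sup_right
      · right
        have h2 := hco.2 _ h
        refine le_antisymm hXN fun n hn => ?_
        have h3 : n ∈ ((stabilizer G α ⊔ X : Subgroup G) : Set G) := by
          rw [h2]; exact mem_top n
        rw [h1] at h3
        obtain ⟨s, hs1, x, hx, hsx⟩ := h3
        have hsx' : s * x = n := hsx
        have h4 : s ∈ stabilizer G α ⊓ N := by
          refine ⟨hs1, ?_⟩
          rw [eq_mul_inv_of_mul_eq hsx']
          exact N.mul_mem hn (N.inv_mem (hXN hx))
        rw [← hsx']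
        exact X.mul_mem (hKX h4) hx)
  refine ⟨?_, ?_, hcen⟩
  swap
  · intro h
    exact hna fun x hx y hy => congrArg Subtype.val (h.is_comm.comm (⟨x, hx⟩ : N) ⟨y, hy⟩)
  rcases hcase with ⟨L, -, hL⟩ | ⟨q, c, hq, -, hcK⟩
  · -- product action
    have hsub := block_single hs N hmin hTna e id (by
      intro n hn j
      have h1 := (hL n).mp hn
      refine (hL _).mpr fun i => ?_
      rw [MulEquiv.apply_symm_apply]
      by_cases h : i = j
      · simp only [id_eq, h, if_true]
        exact h ▸ h1 i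
      · simp only [id_eq, h, if_false]
        exact (L i).one_mem) (by
      intro g _ σ _ i i' h
      exact congrArg _ (congrArg σ h)) hk hkα hk1
    have hss : Subsingleton (Fin m) := ⟨hsub⟩
    have : Unique (Fin m) := uniqueOfSubsingleton ⟨0, hm⟩
    exact (MulEquiv.isSimpleGroup_congr (e.trans (MulEquiv.funUnique (Fin m) T))).mpr hTs
  · -- diagonal action
    exfalso
    have hcK' : ∀ n : N, (n : G) • α = α ↔ ∀ i j : Fin m, c i = c j → e n i = e n j := hcK
    have hconst := block_single hs N hmin hTna e c (by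
      intro n hn j
      have h1 := (hcK' n).mp hn
      refine (hcK' _).mpr fun i i' hii => ?_
      rw [MulEquiv.apply_symm_apply]
      by_cases h : c i = j
      · simp only [h, ← hii, if_true]
        exact h1 i i' hii
      · simp only [h, ← hii, if_false]) (by
      intro g hg σ hσ i i' hii
      by_contra hcon
      obtain ⟨t, ht⟩ := exists_ne (1 : T)
      let n : N := e.symm (fun l => if c l = c (σ i') then t else 1)
      have hen : ∀ l, e n l = if c l = c (σ i') then t else 1 := by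
        intro l
        change e (e.symm _) l = _
        rw [MulEquiv.apply_symm_apply]
      have hnα : (n : G) • α = α := by
        rw [hcK']
        intro l l' hl
        rw [hen, hen, hl]
      have hg' : g⁻¹ • α = α := by rw [inv_smul_eq_iff]; exact hg.symm
      have h1 : ((MulAut.conjNormal g⁻¹ n : N) : G) • α = α := by
        rw [MulAut.conjNormal_apply, inv_inv, mul_smul, mul_smul, hg, hnα, hg']
      have h2 := (hcK' _).mp h1 i i' hii
      have h3 : MulAut.conjNormal g (MulAut.conjNormal g⁻¹ n) = n := by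
        apply Subtype.ext
        rw [MulAut.conjNormal_apply, MulAut.conjNormal_apply]
        group
      have h4 : e (MulAut.conjNormal g⁻¹ n) i = 1 := by
        rw [← hσ, h3, hen, if_neg hcon]
      rw [h4] at h2
      have h5 := (hσ (MulAut.conjNormal g⁻¹ n) i').mpr h2.symm
      rw [h3, hen, if_pos rfl] at h5
      exact ht h5) hk hkα hk1
    have hD : ∀ n : N, (n : G) • α = α ↔ ∀ i j : Fin m, e n i = e n j := by
      intro n
      rw [hcK']
      exact ⟨fun h i j => h i j (hconst i j), fun h i j _ => h i j⟩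
    let i₀ : Fin m := ⟨0, hm⟩
    let δ : T →* N := e.symm.toMonoidHom.comp
      ({ toFun := fun t _ => t, map_one' := rfl, map_mul' := fun _ _ => rfl } : T →* (Fin m → T))
    have hδ : ∀ t i, e (δ t) i = t := by
      intro t i
      change e (e.symm (fun _ => t)) i = t
      rw [MulEquiv.apply_symm_apply]
    have hδα : ∀ t, ((δ t : N) : G) • α = α := by
      intro t
      rw [hD]
      intro i j
      rw [hδ, hδ]
    let D : Subgroup G := (N.subtype.comp δ).range
    have hinj : Function.Injective (N.subtype.comp δ) := by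
      intro a b hab
      have h1 : δ a = δ b := Subtype.ext hab
      rw [← hδ a i₀, h1, hδ]
    have hDmem : ∀ d : G, d ∈ N → d • α = α → ∃ t, ((δ t : N) : G) = d := by
      intro d hd hdα
      refine ⟨e ⟨d, hd⟩ i₀, ?_⟩
      have h1 : δ (e ⟨d, hd⟩ i₀) = ⟨d, hd⟩ := by
        apply e.injective
        refine funext fun i => ?_
        rw [hδ]
        exact (hD ⟨d, hd⟩).mp hdα i₀ i
      rw [h1]
    have hDs : IsSimpleGroup D :=
      (MulEquiv.isSimpleGroup_congr (MonoidHom.ofInjective hinj)).mp hTs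
    have hDna : ¬ IsMulCommutative D := by
      intro h
      apply hTna
      refine ⟨⟨fun a b => (MonoidHom.ofInjective hinj).injective ?_⟩⟩
      rw [map_mul, map_mul]
      exact h.is_comm.comm _ _
    have hDα : ∀ d ∈ D, d • α = α := by
      rintro _ ⟨t, rfl⟩
      exact hδα t
    have hDN : D ≤ N := by
      rintro _ ⟨t, rfl⟩
      exact (δ t).2
    obtain ⟨d, hdN, hdα, hdβ⟩ := exists_move hs.ne N hk hkα hk1
    -- normalise the element taking `α` to `β`
    obtain ⟨n₀, hn₀⟩ := hNtr.exists_smul_eq α β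
    have hn₀' : (n₀ : G) • α = β := hn₀
    let n₁ : N := n₀ * (δ (e n₀ i₀))⁻¹
    have hn₁ : (n₁ : G) • α = β := by
      change ((n₀ : G) * ((δ (e n₀ i₀) : N) : G)⁻¹) • α = β
      have h1 := hδα (e n₀ i₀)
      rw [mul_smul, ← hn₀']
      congr 1
      rw [inv_smul_eq_iff]
      exact h1.symm
    have he₁ : e n₁ i₀ = 1 := by
      change e (n₀ * (δ (e n₀ i₀))⁻¹) i₀ = 1
      rw [map_mul, map_inv, Pi.mul_apply, Pi.inv_apply, hδ, mul_inv_cancel]
    obtain ⟨i, hi⟩ : ∃ i, e n₁ i ≠ 1 := by
      by_contra hcon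
      push Not at hcon
      have h1 : (n₁ : G) • α = α := by
        rw [hD]
        intro i j
        rw [hcon, hcon]
      exact hs.ne (hn₁.symm.trans h1)
    refine zfinal hs hZ D hDα ?_ hDna ?_ (z := ((δ (e n₁ i) : N) : G)) ⟨_, rfl⟩ ?_ ?_
    · intro g hg d hd
      have hg' : g⁻¹ • α = α := by rw [inv_smul_eq_iff]; exact hg.symm
      obtain ⟨t, ht⟩ := hDmem (g * d * g⁻¹) (hN.conj_mem _ (hDN hd) g) (by
        rw [mul_smul, mul_smul, hg', hDα d hd, hg])
      exact ⟨t, ht⟩
    · obtain ⟨t, ht⟩ := hDmem d hdN hdα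
      exact ⟨d, ⟨t, ht⟩, hdβ⟩
    · intro h
      have h1 : δ (e n₁ i) = 1 := Subtype.ext h
      apply hi
      rw [← hδ (e n₁ i) i₀, h1, map_one]
      rfl
    · rintro _ ⟨t, rfl⟩ hfix
      have hfix' : ((δ t : N) : G) • β = β := hfix
      have h1 : ((n₁⁻¹ * δ t * n₁ : N) : G) • α = α := by
        change ((n₁ : G)⁻¹ * (δ t : N) * n₁) • α = α
        rw [mul_smul, mul_smul, hn₁, hfix', ← hn₁, inv_smul_smul]
      have h2 := (hD _).mp h1 i₀ i
      rw [map_mul, map_mul, Pi.mul_apply, Pi.mul_apply, Pi.mul_apply, Pi.mul_apply, map_inv,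
        Pi.inv_apply, Pi.inv_apply, he₁, hδ, hδ, inv_one, one_mul, mul_one] at h2
      have h3 : t * e n₁ i = e n₁ i * t := by
        calc t * e n₁ i = e n₁ i * ((e n₁ i)⁻¹ * t * e n₁ i) := by group
          _ = _ := by rw [← h2]
      change ((δ t : N) : G) * ((δ (e n₁ i) : N) : G) = ((δ (e n₁ i) : N) : G) * ((δ t : N) : G)
      rw [← Subgroup.coe_mul, ← Subgroup.coe_mul, ← map_mul, ← map_mul, h3]

end Cfsg.Agent.H973.TwoSub
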