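import Mathlib

/-!
# Automorphisms of a power of a non-abelian simple group permute the coordinates
-/

set_option autoImplicit false

namespace Cfsg.Agent.H973.TwoSub

open Subgroup

theorem eq_one_of_forall_commute {T : Type*} [Group T] [IsSimpleGroup T]
    (hna : ¬ IsMulCommutative T) {t : T} (h : ∀ s : T, s * t = t * s) : t = 1 := by
  have h1 : t ∈ Subgroup.center T := Subgroup.mem_center_iff.mpr h
  rcases (inferInstance : (Subgroup.center T).Normal).eq_bot_or_eq_top with h2 | h2
  · rwa [h2, Subgroup.mem_bot] at h1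
  · exfalso
    apply hna
    refine ⟨⟨fun a b => ?_⟩⟩
    have h3 : b ∈ Subgroup.center T := h2 ▸ mem_top b
    exact Subgroup.mem_center_iff.mp h3 a

theorem exists_perm {ι : Type*} [Finite ι] [DecidableEq ι] {T : Type*} [Group T]
    [IsSimpleGroup T] (hna : ¬ IsMulCommutative T) (φ : (ι → T) ≃* (ι → T)) :
    ∃ σ : Equiv.Perm ι, ∀ x i, φ x (σ i) = 1 ↔ x i = 1 := by
  -- the components of the restriction to the `i`-th factor
  let f : ι → ι → T →* T := fun i k =>
    (Pi.evalMonoidHom _ k).comp (φ.toMonoidHom.comp (MonoidHom.mulSingle (fun _ => T) i))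
  have hf : ∀ i k t, f i k t = φ (Pi.mulSingle i t) k := fun i k t => rfl
  have hsingle : ∀ (i : ι) (a : ι → T) (t : T),
      a * Pi.mulSingle i t * a⁻¹ = Pi.mulSingle i (a i * t * (a i)⁻¹) := by
    intro i a t
    refine funext fun j => ?_
    by_cases hj : j = i
    · subst hj
      simp
    · simp [hj]
  have hconj : ∀ i k l s t, (Pi.mulSingle k s : ι → T) l * f i l t * ((Pi.mulSingle k s : ι → T) l)⁻¹
      = f i l ((φ.symm (Pi.mulSingle k s)) i * t * ((φ.symm (Pi.mulSingle k s)) i)⁻¹) := by
    intro i k l s t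
    rw [hf i l (_ * t * _), ← hsingle, map_mul, map_mul, map_inv, MulEquiv.apply_symm_apply, hf]
    rfl
  have hinj : ∀ i k, (∃ t, f i k t ≠ 1) → Function.Injective (f i k) := by
    intro i k ⟨t, ht⟩
    rw [← MonoidHom.ker_eq_bot_iff]
    rcases (inferInstance : (f i k).ker.Normal).eq_bot_or_eq_top with h | h
    · exact h
    · exfalso
      have : t ∈ (f i k).ker := h ▸ mem_top t
      exact ht (MonoidHom.mem_ker.mp this)
  have hsurj : ∀ i k, (∃ t, f i k t ≠ 1) → Function.Surjective (f i k) := by
    intro i k ⟨t, ht⟩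
    have hn : (f i k).range.Normal := by
      refine ⟨?_⟩
      rintro _ ⟨t, rfl⟩ s
      refine ⟨(φ.symm (Pi.mulSingle k s)) i * t * ((φ.symm (Pi.mulSingle k s)) i)⁻¹, ?_⟩
      rw [← hconj i k k s t, Pi.mulSingle_eq_same]
    rw [← MonoidHom.range_eq_top]
    rcases hn.eq_bot_or_eq_top with h | h
    · exfalso
      have : f i k t ∈ (f i k).range := ⟨t, rfl⟩
      rw [h, Subgroup.mem_bot] at this
      exact ht this
    · exact h
  have hex : ∀ i, ∃ k, ∃ t, f i k t ≠ 1 := by
    intro i
    obtain ⟨t, ht⟩ := exists_ne (1 : T)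
    by_contra hcon
    push Not at hcon
    apply ht
    have h1 : φ (Pi.mulSingle i t) = 1 := funext fun k => hcon k t
    have h2 : (Pi.mulSingle i t : ι → T) = 1 := by
      rw [← map_one φ] at h1
      exact φ.injective h1
    exact Pi.mulSingle_eq_one_iff.mp h2
  have huniq : ∀ i k l, (∃ t, f i k t ≠ 1) → (∃ t, f i l t ≠ 1) → l = k := by
    intro i k l hk hl
    by_contra hne
    have h1 : ∀ s, (φ.symm (Pi.mulSingle k s)) i = 1 := by
      intro s
      refine eq_one_of_forall_commute hna fun t => ?_
      have h2 := hconj i k l s t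
      rw [Pi.mulSingle_eq_of_ne hne, one_mul, inv_one, mul_one] at h2
      have h3 := hinj i l hl h2
      calc t * (φ.symm (Pi.mulSingle k s)) i
          = ((φ.symm (Pi.mulSingle k s)) i * t * ((φ.symm (Pi.mulSingle k s)) i)⁻¹) *
              (φ.symm (Pi.mulSingle k s)) i := by rw [← h3]
        _ = _ := by group
    obtain ⟨t, ht⟩ := hk
    apply ht
    refine eq_one_of_forall_commute hna fun s => ?_
    have h2 := hconj i k k s t
    rw [h1, Pi.mulSingle_eq_same, one_mul, inv_one, mul_one] at h2
    calc s * f i k t = (s * f i k t * s⁻¹) * s := by group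
      _ = _ := by rw [h2]
  choose σ hσ using hex
  have hzero : ∀ i k t, k ≠ σ i → f i k t = 1 := by
    intro i k t hk
    by_contra hcon
    exact hk (huniq i (σ i) k (hσ i) ⟨t, hcon⟩)
  have himg : ∀ i t, φ (Pi.mulSingle i t) = Pi.mulSingle (σ i) (f i (σ i) t) := by
    intro i t
    refine funext fun k => ?_
    by_cases hk : k = σ i
    · subst hk
      rw [Pi.mulSingle_eq_same]
      rfl
    · rw [Pi.mulSingle_eq_of_ne hk]
      exact hzero i k t hk
  have hcomm : ∀ (x : ι → T) i, x i = 1 ↔ ∀ t, x * Pi.mulSingle i t = Pi.mulSingle i t * x := by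
    intro x i
    constructor
    · intro h t
      refine funext fun j => ?_
      by_cases hj : j = i
      · subst hj
        simp [h]
      · simp [hj]
    · intro h
      refine eq_one_of_forall_commute hna fun s => ?_
      have := congrFun (h s) i
      simpa using this.symm
  have hiff : ∀ x i, φ x (σ i) = 1 ↔ x i = 1 := by
    intro x i
    rw [hcomm, hcomm x i]
    constructor
    · intro h t
      apply φ.injective
      rw [map_mul, map_mul, himg]
      exact h _
    · intro h t
      obtain ⟨s, hs⟩ := hsurj i (σ i) (hσ i) t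
      rw [← hs, ← himg, ← map_mul, ← map_mul, h]
  have hσinj : Function.Injective σ := by
    intro i j hij
    by_contra hne
    obtain ⟨t, ht⟩ := exists_ne (1 : T)
    have h1 : φ (Pi.mulSingle i t) (σ j) = 1 := by
      rw [hiff, Pi.mulSingle_eq_of_ne (Ne.symm hne)]
    rw [← hij, hiff, Pi.mulSingle_eq_same] at h1
    exact ht h1
  refine ⟨Equiv.ofBijective σ (Finite.injective_iff_bijective.mp hσinj), fun x i => ?_⟩
  exact hiff x i

end Cfsg.Agent.H973.TwoSub
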