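import Cfsg.Prelude
import Cfsg.Agent.H973.TwoSubPi
import Cfsg.Agent.Lib.Cores
import Cfsg.Agent.PermutationGroups.TwoTransitiveNormal

/-!
# A normal non-abelian simple subgroup of a 2-transitive group has centreless point stabilizers

(modulo the `Z*_p` theorem, which is a hypothesis here)
-/

set_option autoImplicit false

namespace Cfsg.Agent.H973.TwoSub

open Subgroup MulAction Cfsg.Agent.PermutationGroups.TwoTransitiveNormal

theorem lemmaZ {H Γ : Type*} [Group H] [Finite H] [Finite Γ] [MulAction H Γ]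
    (h2 : ∀ a b c d : Γ, a ≠ b → c ≠ d → ∃ g : H, g • a = c ∧ g • b = d)
    (T : Subgroup H) [hTn : T.Normal] [IsSimpleGroup T] (hna : ¬ IsMulCommutative T)
    (hZ : ∀ (p : ℕ) [Fact p.Prime] (S : Sylow p T) (x : T), x ∈ (S : Subgroup T) →
      (∀ g : T, g * x * g⁻¹ ∈ (S : Subgroup T) → g * x * g⁻¹ = x) → Cfsg.InZStar p x)
    {t₀ : H} (ht₀ : t₀ ∈ T) {x₀ : Γ} (htx : t₀ • x₀ ≠ x₀)
    {γ : Γ} {z : H} (hz : z ∈ T) (hz1 : z ≠ 1)
    (hzc : ∀ t ∈ T, t • γ = γ → t * z = z * t) : False := by
  classical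
  have hnt : Nontrivial Γ := ⟨⟨_, _, htx⟩⟩
  -- faithful
  have hfaith : ∀ t ∈ T, (∀ x : Γ, t • x = x) → t = 1 := by
    intro t ht hfix
    have hK : ((MulAction.toPermHom H Γ).ker.subgroupOf T).Normal := inferInstance
    rcases hK.eq_bot_or_eq_top with h | h
    · have h1 : (⟨t, ht⟩ : T) ∈ (MulAction.toPermHom H Γ).ker.subgroupOf T := by
        rw [mem_subgroupOf, MonoidHom.mem_ker]
        ext x
        exact hfix x
      rw [h, mem_bot] at h1
      exact congrArg Subtype.val h1
    · exfalso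
      apply htx
      have h1 : (⟨t₀, ht₀⟩ : T) ∈ (MulAction.toPermHom H Γ).ker.subgroupOf T := by
        rw [h]; exact mem_top _
      rw [mem_subgroupOf, MonoidHom.mem_ker] at h1
      exact congrArg (fun e : Equiv.Perm Γ => e x₀) h1
  -- transitive
  have htr : IsPretransitive T Γ := by
    refine ⟨fun a b => ?_⟩
    by_cases hab : a = b
    · exact ⟨1, by rw [one_smul]; exact hab⟩
    · obtain ⟨g, hg1, hg2⟩ := h2 x₀ (t₀ • x₀) a b htx.symm hab
      refine ⟨⟨g * t₀ * g⁻¹, hTn.conj_mem _ ht₀ g⟩, ?_⟩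
      change (g * t₀ * g⁻¹) • a = b
      rw [← hg1, mul_smul, mul_smul, inv_smul_smul, hg2]
  -- primitive
  have hprim : IsPreprimitive T Γ := by
    rcases isPreprimitive_or_of_card_inf_stabilizer_eq (G := T) (X := Γ)
      (m := Nat.card ↥(stabilizer T x₀ ⊓ stabilizer T (t₀ • x₀)))
      (fun a b hab => card_inf_stabilizer_eq h2 T hab htx.symm) with h | h
    · exact h
    · exfalso
      have h1 : ∀ a b : Γ, a ≠ b → ∀ g ∈ T, g • a = a → g • b = b → g = 1 := by
        intro a b hab g hg hga hgb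
        exact hfaith g hg fun x => h a b hab ⟨g, hg⟩ (mem_inf.mpr ⟨hga, hgb⟩) x
      obtain ⟨K, hKn, hKT, hKtr, hKst, -⟩ := exists_regular_normal_of_two_point_trivial h2 T h1
      have hKT' : (K.subgroupOf T).Normal := inferInstance
      have hKeq : K = T := by
        rcases hKT'.eq_bot_or_eq_top with h3 | h3
        · exfalso
          have h4 : K = ⊥ := by
            rw [eq_bot_iff]
            intro k hk
            have h5 : (⟨k, hKT hk⟩ : T) ∈ K.subgroupOf T := hk
            rw [h3, mem_bot] at h5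
            exact congrArg Subtype.val h5
          subst h4
          obtain ⟨⟨k, hk⟩, hk2⟩ := hKtr.exists_smul_eq x₀ (t₀ • x₀)
          rw [mem_bot] at hk
          subst hk
          apply htx
          rw [← hk2]
          exact one_smul H x₀
        · exact le_antisymm hKT (subgroupOf_eq_top.mp h3)
      subst hKeq
      exact hna (regular_normal_elementary_abelian h2 K hKst).1
  -- centralizers
  have hmax : ∀ a ∈ T, a ≠ 1 → ∀ δ : Γ, (∀ t ∈ T, t • δ = δ → t * a = a * t) →
      ∀ t ∈ T, t * a = a * t → t • δ = δ := by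
    intro a ha ha1 δ hδ t ht hta
    have hco : IsCoatom (stabilizer T δ) :=
      IsPreprimitive.isCoatom_stabilizer_of_isPreprimitive T δ
    let C : Subgroup T := Subgroup.centralizer {(⟨a, ha⟩ : T)}
    have hmemC : ∀ s : T, s ∈ C ↔ (s : H) * a = a * s := by
      intro s
      rw [Subgroup.mem_centralizer_singleton_iff]
      constructor
      · intro h
        exact congrArg Subtype.val h
      · intro h
        exact Subtype.ext h
    have hle : stabilizer T δ ≤ C := by
      intro s hs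
      rw [hmemC]
      exact hδ s s.2 hs
    have hCne : C ≠ ⊤ := by
      intro h
      apply ha1
      have h1 : (⟨a, ha⟩ : T) = 1 := by
        refine eq_one_of_forall_commute hna fun s => ?_
        have : s ∈ C := h ▸ mem_top s
        exact Subtype.ext ((hmemC s).mp this)
      exact congrArg Subtype.val h1
    have heq : C = stabilizer T δ := by
      rcases lt_or_eq_of_le hle with h | h
      · exact absurd (hco.2 C h) hCne
      · exact h.symm
    have h2 : (⟨t, ht⟩ : T) ∈ C := (hmemC _).mpr hta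
    rw [heq] at h2
    exact h2
  -- conjugation
  have hconjZ : ∀ (g : H) (δ : Γ) (b : H), (∀ t ∈ T, t • δ = δ → t * b = b * t) →
      ∀ t ∈ T, t • (g • δ) = g • δ → t * (g * b * g⁻¹) = (g * b * g⁻¹) * t := by
    intro g δ b hb t ht htg
    have h1 := hb (g⁻¹ * t * g) (by simpa using hTn.conj_mem _ ht g⁻¹) (by
      rw [mul_smul, mul_smul, htg, inv_smul_smul])
    calc t * (g * b * g⁻¹) = g * ((g⁻¹ * t * g) * b) * g⁻¹ := by group
      _ = g * (b * (g⁻¹ * t * g)) * g⁻¹ := by rw [h1]
      _ = _ := by group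
  -- elements of `Z(T_δ)` fix only `δ`
  have hfix : ∀ a ∈ T, a ≠ 1 → (∀ t ∈ T, t • γ = γ → t * a = a * t) →
      ∀ δ : Γ, a • δ = δ → δ = γ := by
    intro a ha ha1 hac δ hδ
    by_contra hne
    have hall : ∀ b ∈ T, (∀ t ∈ T, t • δ = δ → t * b = b * t) → b = 1 := by
      intro b hb hbc
      by_contra hb1
      apply hb1
      refine hfaith b hb fun x => ?_
      by_cases hx : x = δ
      · subst hx
        exact hmax b hb hb1 x hbc b hb rfl
      · obtain ⟨g, hg1, hg2⟩ := h2 δ x δ γ (Ne.symm hx) hne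
        have hb' : g * b * g⁻¹ ∈ T := hTn.conj_mem _ hb g
        have h3 := hconjZ g δ b hbc
        rw [hg1] at h3
        have h4 : (g * b * g⁻¹) • γ = γ := by
          refine hmax a ha ha1 γ hac _ hb' ?_
          exact (h3 a ha hδ).symm
        rw [← hg2, mul_smul, mul_smul, inv_smul_smul] at h4
        exact smul_left_cancel g h4
    obtain ⟨s, hs⟩ := htr.exists_smul_eq γ δ
    have h5 := hconjZ (s : H) γ a hac
    have hs' : (s : H) • γ = δ := hs
    rw [hs'] at h5
    have h6 := hall _ (hTn.conj_mem _ ha s) h5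
    apply ha1
    calc a = (s : H)⁻¹ * (s * a * (s : H)⁻¹) * s := by group
      _ = 1 := by rw [h6]; group
  -- an element of prime order
  have hord : orderOf z ≠ 1 := fun h => hz1 (orderOf_eq_one_iff.mp h)
  obtain ⟨p, hp, hpd⟩ := Nat.exists_prime_and_dvd hord
  have : Fact p.Prime := ⟨hp⟩
  have hzo : orderOf (z ^ (orderOf z / p)) = p :=
    orderOf_pow_orderOf_div (orderOf_pos z).ne' hpd
  set y : H := z ^ (orderOf z / p) with hy
  have hyT : y ∈ T := T.pow_mem hz _
  have hy1 : y ≠ 1 := by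
    intro h
    rw [h, orderOf_one] at hzo
    exact hp.one_lt.ne hzo
  have hyc : ∀ t ∈ T, t • γ = γ → t * y = y * t := by
    intro t ht htγ
    have : Commute t z := hzc t ht htγ
    exact (this.pow_right _).eq
  have hyfix := hfix y hyT hy1 hyc
  have hyγ : y • γ = γ := hmax y hyT hy1 γ hyc y hyT rfl
  let yT : T := ⟨y, hyT⟩
  have hyTo : orderOf yT = p := by
    rw [← hzo]
    exact (Subgroup.orderOf_coe yT).symm
  have hPG : IsPGroup p (Subgroup.zpowers yT) := by
    refine IsPGroup.of_card (n := 1) ?_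
    rw [Nat.card_zpowers, hyTo, pow_one]
  obtain ⟨S, hS⟩ := hPG.exists_le_sylow
  have hyS : yT ∈ (S : Subgroup T) := hS (Subgroup.mem_zpowers yT)
  have hcard : ¬ p ∣ Nat.card Γ := by
    intro hdvd
    have h1 := hPG.card_modEq_card_fixedPoints Γ
    have h3 : fixedPoints (Subgroup.zpowers yT) Γ = {γ} := by
      ext x
      rw [mem_fixedPoints, Set.mem_singleton_iff]
      constructor
      · intro h
        exact hyfix x (h ⟨yT, Subgroup.mem_zpowers yT⟩)
      · rintro rfl ⟨g, hg⟩
        obtain ⟨n, rfl⟩ := Subgroup.mem_zpowers_iff.mp hg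
        have h4 : y ∈ stabilizer H x := hyγ
        have h5 := (stabilizer H x).zpow_mem h4 n
        exact h5
    rw [h3] at h1
    have h6 : Nat.card ({γ} : Set Γ) = 1 := by simp
    rw [h6] at h1
    have h7 := (Nat.modEq_zero_iff_dvd.mpr hdvd).symm.trans h1
    have h8 : p ∣ 1 := (Nat.modEq_zero_iff_dvd.mp h7.symm)
    exact hp.one_lt.ne' (Nat.dvd_one.mp h8)
  obtain ⟨δ, hδ⟩ := S.isPGroup'.nonempty_fixed_point_of_prime_not_dvd_card Γ hcard
  have hSfix : ∀ s : T, s ∈ (S : Subgroup T) → (s : H) • γ = γ := by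
    have hδγ : δ = γ := hyfix δ (hδ ⟨yT, hyS⟩)
    intro s hs
    have := hδ ⟨s, hs⟩
    rw [hδγ] at this
    exact this
  have hiso : ∀ g : T, g * yT * g⁻¹ ∈ (S : Subgroup T) → g * yT * g⁻¹ = yT := by
    intro g hg
    have h1 := hSfix _ hg
    have h3 : ((g : H) * y * (g : H)⁻¹) • γ = γ := h1
    rw [mul_smul, mul_smul, smul_eq_iff_eq_inv_smul] at h3
    have h4 := hyfix _ h3
    have h5 : (g : H) • γ = γ := by
      rw [smul_eq_iff_eq_inv_smul]; exact h4.symm
    have h6 := hyc g g.2 h5
    apply Subtype.ext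
    change (g : H) * y * (g : H)⁻¹ = y
    rw [h6, mul_inv_cancel_right]
  have hin := hZ p S yT hyS hiso
  have hOn : (Cfsg.pPrimeCore p T).Normal := Cfsg.Agent.Lib.Cores.pPrimeCore_normal p
  rcases hOn.eq_bot_or_eq_top with h | h
  · have h1 : yT = 1 := by
      refine eq_one_of_forall_commute hna fun s => ?_
      have h3 := hin s
      rw [h, mem_bot] at h3
      exact mul_inv_eq_iff_eq_mul.mp (mul_inv_eq_one.mp h3)
    exact hy1 (congrArg Subtype.val h1)
  · have h1 := Cfsg.Agent.Lib.Cores.pPrimeCore_coprime (G := T) p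
    rw [h] at h1
    have h3 : p ∣ Nat.card (⊤ : Subgroup T) := by
      rw [Subgroup.card_top, ← hyTo]
      exact orderOf_dvd_natCard yT
    have h4 : Nat.Coprime p p := Nat.Coprime.coprime_dvd_left h3 h1
    exact hp.one_lt.ne' ((Nat.coprime_self p).mp h4)

end Cfsg.Agent.H973.TwoSub
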