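import Cfsg.Agent.H509.TwoFrame
import Cfsg.Agent.Omega.TwoF.TitsAut
import Cfsg.Agent.TitsK.Inst
import Cfsg.Agent.TitsK.SheetT

/-!
# S3842, S4094, S4095, p = 2: the Tits group, outer elements (helper973, for helper509)

`outrow_Tits` : if `L` is the Tits group and `x ∉ L`, `G = L⟨x⟩` is `²F₄(2)` because `|Out L|` divides 2; the two minimal
parabolic subgroups of `²F₄(2)` contain `N_G(T₀) = T₀` and generate `G`.
-/

set_option autoImplicit false

namespace Cfsg.Agent.H973.TwoTits

open Subgroup Cfsg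
open Cfsg.Agent.H509.TwoFrame
open Cfsg.Agent.ChevalleyStructure.Tits.Data Cfsg.Agent.ChevalleyStructure.Tits.Rank2
  Cfsg.Agent.ChevalleyStructure.Tits.Sat Cfsg.Agent.ChevalleyStructure.Tits.Final
open Cfsg.Agent.Omega.TwoF.TitsAut

/-- two proper overgroups of the normalizer of a Sylow 2-subgroup generate the group -/
def HasPair (G : Type*) [Group G] : Prop :=
  ∃ (T : Sylow 2 G) (D₁ D₂ : Subgroup G), normalizer ((T : Subgroup G) : Set G) ≤ D₁ ∧
    normalizer ((T : Subgroup G) : Set G) ≤ D₂ ∧ D₁ ≠ ⊤ ∧ D₂ ≠ ⊤ ∧ D₁ ⊔ D₂ = ⊤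

theorem Ctx.false_of_hasPair {G : Type*} [Group G] [Finite G] {L : Subgroup G} {x : G} (C : Ctx 2 L x)
    (h : HasPair G) (h2 : 2 ∣ orderOf x) : False := by
  obtain ⟨T, D₁, D₂, h₁, h₂, ht₁, ht₂, hg⟩ := h
  obtain ⟨n, k, hk, hn⟩ := exists_pow h2
  exact C.false_of_pair hk hn h₁ h₂ ht₁ ht₂ hg

theorem HasPair.congr {G H : Type*} [Group G] [Group H] [Finite H] (e : G ≃* H) (h : HasPair G) : HasPair H := by
  obtain ⟨T, D₁, D₂, h₁, h₂, ht₁, ht₂, hg⟩ := h
  have hfin : Finite G := Finite.of_equiv _ e.symm.toEquiv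
  have hS := T.isPGroup'.map e.toMonoidHom
  have hcard : Nat.card ((T : Subgroup G).map e.toMonoidHom) = 2 ^ (Nat.card H).factorization 2 := by
    rw [← Nat.card_congr ((T : Subgroup G).equivMapOfInjective e.toMonoidHom e.injective).toEquiv,
      ← Nat.card_congr e.toEquiv]
    exact T.card_eq_multiplicity
  let T' : Sylow 2 H := Sylow.ofCard _ hcard
  have hT' : (T' : Subgroup H) = (T : Subgroup G).map e.toMonoidHom := rfl
  have hN : ∀ D : Subgroup G, normalizer ((T : Subgroup G) : Set G) ≤ D →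
      normalizer ((T' : Subgroup H) : Set H) ≤ D.map e.toMonoidHom := by
    intro D hD g hg
    refine ⟨e.symm g, hD ?_, e.apply_symm_apply g⟩
    rw [mem_normalizer_iff]
    intro t
    have h1 := mem_normalizer_iff.1 hg (e t)
    rw [hT'] at h1
    have e1 : ∀ s : G, e s ∈ (T : Subgroup G).map e.toMonoidHom ↔ s ∈ (T : Subgroup G) := by
      intro s
      constructor
      · rintro ⟨s', hs', h'⟩
        rwa [← e.injective h']
      · intro h
        exact ⟨s, h, rfl⟩
    have e2 : g * e t * g⁻¹ = e (e.symm g * t * (e.symm g)⁻¹) := by simp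
    rw [e2, e1, e1] at h1
    exact h1
  have ht : ∀ D : Subgroup G, D ≠ ⊤ → D.map e.toMonoidHom ≠ ⊤ := by
    intro D hD h
    apply hD
    rw [eq_top_iff]
    intro g _
    have h1 : e g ∈ D.map e.toMonoidHom := by rw [h]; trivial
    obtain ⟨g', hg', h'⟩ := h1
    rwa [← e.injective h']
  refine ⟨T', D₁.map e.toMonoidHom, D₂.map e.toMonoidHom, hN _ h₁, hN _ h₂, ht _ ht₁, ht _ ht₂, ?_⟩
  rw [← Subgroup.map_sup, hg]
  exact Subgroup.map_top_of_surjective _ e.surjective

section Abs

variable {Γ : Type*} [Group Γ] [Finite Γ] {y : ℕ → Γ} (hy : Sat y)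
  (hgen : closure (y '' {i | i < 10}) = ⊤) (hcard : Nat.card Γ = 35942400) (hU : Nat.card (V y 0) = 4096)
  (h0 : y 0 ≠ 1) (h7 : y 7 ^ 2 ≠ 1)

include hy hgen hcard hU h0 h7

/-- the minimal parabolics of `²F₄(2)` -/
theorem hasPair : HasPair Γ := by
  have hp : Fact (Nat.Prime 2) := ⟨Nat.prime_two⟩
  have hX := card_X hy h0 h7
  have hG : (rd hy).G = ⊤ := by rw [rd_G hy, hgen]
  have hU' : Nat.card (rd hy).U = 4096 := hU
  have hfac : (Nat.card Γ).factorization 2 = 12 := by
    rw [hcard]
    have : (35942400 : ℕ) = 2 ^ 12 * 8775 := by norm_num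
    rw [this, Nat.factorization_mul (by norm_num) (by norm_num), Nat.factorization_pow]
    simp only [Finsupp.add_apply, Finsupp.smul_apply, smul_eq_mul]
    rw [Nat.Prime.factorization_self Nat.prime_two, Nat.factorization_eq_zero_of_not_dvd (by norm_num)]
  let T : Sylow 2 Γ := Sylow.ofCard (rd hy).U (by rw [hU', hfac]; norm_num)
  have hT : (T : Subgroup Γ) = (rd hy).U := rfl
  have hN : normalizer ((T : Subgroup Γ) : Set Γ) ≤ (rd hy).U := by
    intro g hg
    refine mem_of_norm (rd hy) hX hU' hG hcard ?_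
    intro u hu
    exact (mem_normalizer_iff.1 hg u).1 hu
  have ht : ∀ s, Pp (rd hy) s ≠ ⊤ := by
    intro s h
    have h1 := card_P (rd hy) hX hU' hG hcard s
    rw [h, card_top, hcard] at h1
    cases s <;> norm_num at h1
  refine ⟨T, Pp (rd hy) false, Pp (rd hy) true, hN.trans (U_le_P (rd hy) false), hN.trans (U_le_P (rd hy) true),
    ht false, ht true, ?_⟩
  rw [eq_top_iff, ← hG]
  unfold RD.G
  rw [closure_le]
  rintro g (hg | ⟨s, rfl⟩)
  · exact mem_sup_left (U_le_P (rd hy) false hg)
  · cases s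
    · exact mem_sup_left (n_mem_P (rd hy) false)
    · exact mem_sup_right (n_mem_P (rd hy) true)

/-- `Γ` is the automorphism group of its derived group -/
theorem conj_bijective (hcore : ∀ N : Subgroup Γ, N.Normal → N ≤ V y 0 → N = ⊥)
    (hna : ¬ IsMulCommutative (commutator Γ)) (hi : (commutator Γ).index = 2)
    (hout : (MulAut.conj : commutator Γ →* MulAut (commutator Γ)).range.index ∣ 2) :
    Function.Bijective (MulAut.conjNormal : Γ →* MulAut (commutator Γ)) := by
  have hinj := conj_injective hy hgen hcard hU h0 h7 hcore hna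
  have hfinA : Finite (MulAut (commutator Γ)) := inferInstance
  refine Function.Injective.bijective_of_nat_card_le hinj ?_
  have h1 := Subgroup.index_mul_card (MulAut.conj : commutator Γ →* MulAut (commutator Γ)).range
  have h2 := Subgroup.index_mul_card (commutator Γ)
  rw [← h1, ← h2, hi]
  refine Nat.mul_le_mul (Nat.le_of_dvd (by norm_num) hout) ?_
  exact Nat.card_le_card_of_surjective (fun g : commutator Γ => (⟨MulAut.conj g, g, rfl⟩ :
    (MulAut.conj : commutator Γ →* MulAut (commutator Γ)).range)) (by rintro ⟨_, g, rfl⟩; exact ⟨g, rfl⟩)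

/-- identification of `G` -/
theorem exists_iso (hcore : ∀ N : Subgroup Γ, N.Normal → N ≤ V y 0 → N = ⊥)
    (hna : ¬ IsMulCommutative (commutator Γ)) (hi : (commutator Γ).index = 2)
    (hout : (MulAut.conj : commutator Γ →* MulAut (commutator Γ)).range.index ∣ 2)
    {G : Type*} [Group G] [Finite G] {L : Subgroup G} [hL : L.Normal] (hc : centralizer (L : Set G) = ⊥)
    (hne : L ≠ ⊤) (e : L ≃* commutator Γ) : Nonempty (Γ ≃* G) := by
  have hbij := conj_bijective hy hgen hcard hU h0 h7 hcore hna hi hout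
  let f : Γ ≃* MulAut (commutator Γ) := MulEquiv.ofBijective _ hbij
  let φ : G →* MulAut (commutator Γ) := (MulAut.congr e).toMonoidHom.comp (MulAut.conjNormal : G →* MulAut L)
  have hφ : Function.Injective φ := by
    have h1 : Function.Injective (MulAut.conjNormal : G →* MulAut L) := by
      rw [injective_iff_map_eq_one]
      intro g hg
      have h2 : g ∈ centralizer (L : Set G) := by
        rw [mem_centralizer_iff]
        intro l hl
        have h3 := congrArg (fun ψ : MulAut L => ((ψ ⟨l, hl⟩ : L) : G)) hg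
        simp only [MulAut.conjNormal_apply, MulAut.one_apply] at h3
        exact (mul_inv_eq_iff_eq_mul.1 h3).symm
      rw [hc] at h2
      exact h2
    exact (MulAut.congr e).injective.comp h1
  have hcardG : Nat.card (MulAut (commutator Γ)) ≤ Nat.card G := by
    rw [← Nat.card_congr f.toEquiv, ← Subgroup.index_mul_card (commutator Γ), hi,
      ← Subgroup.index_mul_card L, Nat.card_congr e.toEquiv]
    refine Nat.mul_le_mul_right _ ?_
    have h1 : L.index ≠ 1 := fun h => hne (index_eq_one.1 h)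
    have h2 : L.index ≠ 0 := index_ne_zero_of_finite
    omega
  have hb : Function.Bijective φ := Function.Injective.bijective_of_nat_card_le hφ hcardG
  exact ⟨f.trans (MulEquiv.ofBijective φ hb).symm⟩

end Abs

section Concrete

open Cfsg.Agent.ChevalleyStructure.Tits.Pack Cfsg.Agent.ChevalleyStructure.Tits.Mat
  Cfsg.Agent.ChevalleyStructure.Tits.Order Cfsg.Agent.ChevalleyStructure.Tits.Main
open scoped MatrixGroups

/-- `|Out K|` divides 2 -/
def Idx (K : Type*) [Group K] : Prop := (MulAut.conj : K →* MulAut K).range.index ∣ 2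

theorem Idx.congr {X Y : Type*} [Group X] [Group Y] (h : Idx Y) (e : X ≃* Y) : Idx X := by
  have h1 : (MulAut.conj : Y →* MulAut Y).range =
      (MulAut.conj : X →* MulAut X).range.map (MulAut.congr e).toMonoidHom := by
    ext f
    constructor
    · rintro ⟨y, rfl⟩
      refine ⟨MulAut.conj (e.symm y), ⟨_, rfl⟩, ?_⟩
      ext z
      show e (e.symm y * e.symm z * (e.symm y)⁻¹) = y * z * y⁻¹
      simp
    · rintro ⟨_, ⟨x, rfl⟩, rfl⟩
      refine ⟨e x, ?_⟩
      ext z
      show e x * z * (e x)⁻¹ = e (x * e.symm z * x⁻¹)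
      simp
  unfold Idx at h ⊢
  rw [h1] at h
  have h2 : ((MulAut.conj : X →* MulAut X).range.map (MulAut.congr e).toMonoidHom).index =
      (MulAut.conj : X →* MulAut X).range.index :=
    Subgroup.index_map_equiv (MulAut.conj : X →* MulAut X).range (MulAut.congr e)
  rwa [h2] at h

theorem idx_TT : Idx ↥Cfsg.Agent.TitsK.TT := by
  have hfin : Finite Cfsg.Agent.FourTwo.Base.LL := Cfsg.Agent.FourTwo.Classes.finite_LL
  exact Cfsg.Agent.TitsK.tdata.index_inn

theorem idx_titsGroup {K : Type*} [Group K] (h : Lie.IsoTits K) : Idx K := by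
  obtain ⟨e⟩ := h
  obtain ⟨e'⟩ := Cfsg.Agent.TitsK.exists_equiv
  exact idx_TT.congr (e.trans e')

theorem hasPair_H0 {G : Type*} [Group G] [Finite G] {L : Subgroup G} [hL : L.Normal]
    (hc : centralizer (L : Set G) = ⊥) (hne : L ≠ ⊤) (hI : Idx L) (e : L ≃* commutator H0) : HasPair G := by
  have := fin_H0
  obtain ⟨e'⟩ := exists_iso Sat_yH gen_yH card_H0 card_V_yH (yH_ne_one (by norm_num)) yH7_sq core H0_result.2.2.1
    H0_result.1 (hI.congr e.symm) hc hne e
  exact (hasPair Sat_yH gen_yH card_H0 card_V_yH (yH_ne_one (by norm_num)) yH7_sq).congr e'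

theorem hasPair_aux (T : Subgroup (GL I52 (ZMod 2))) (hT : T = H0) {G : Type*} [Group G] [Finite G] {L : Subgroup G}
    [hL : L.Normal] (hc : centralizer (L : Set G) = ⊥) (hne : L ≠ ⊤) (hI : Idx L) (e : L ≃* commutator T) :
    HasPair G := by
  subst hT
  exact hasPair_H0 hc hne hI e

end Concrete

universe u

/-- **The outer row of the Tits group.** -/
theorem outrow_Tits {G : Type u} [Group G] [Finite G] {L : Subgroup G} (h : Cfsg.Lie.IsoTits L) {x : G}
    (C : Ctx 2 L x) (hx : x ∉ L) (h2 : 2 ∣ orderOf x) : False := by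
  have hL := C.normal
  obtain ⟨T, hT, ⟨e⟩⟩ := exists_equiv h
  have hne : L ≠ ⊤ := fun ht => hx (by rw [ht]; trivial)
  exact Ctx.false_of_hasPair C (hasPair_aux T hT C.cent hne (idx_titsGroup h) e) h2

end Cfsg.Agent.H973.TwoTits
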